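import Cfsg.Agent.H587.Der34.Mat
import Cfsg.Agent.H180.MElL34
import Cfsg.Agent.S2601
import Cfsg.Agent.H102.E7V.Psl34
import Cfsg.Agent.BpSpor.HeThree

/-!
# The row `L₃(4)` (helper587)
-/

set_option autoImplicit false

namespace Cfsg.Agent.H587.Der34

open Matrix Subgroup Cfsg.Agent.H439.Der
open Cfsg.Agent.SporadicA.FieldFour Cfsg.Agent.SporadicA.PlaneFour
open Cfsg.Agent.ONType.Psl Cfsg.Agent.ONType.PslCard
open Cfsg.Agent.CpAut.SmallP.PslFour

theorem h35_PSL3 (R : Subgroup PSL3) (h5 : 5 ∣ Nat.card R) (h7 : 7 ∣ Nat.card R) : R = ⊤ := by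
  have hfin : Finite PSL3 := finite_PSL3
  have hc : Nat.card PSL3 = 20160 := card_PSL3
  have e : Nat.card (R.map pslHom) = Nat.card R :=
    Nat.card_congr (R.equivMapOfInjective pslHom pslHom_injective).symm.toEquiv
  apply Subgroup.eq_top_of_card_eq
  rw [← e, hc]
  refine Cfsg.Agent.H180.MEl.m21 (T := {none, some 0, some 1}) ?_ (by decide) ?_ (by rw [e]; exact h5) (by rw [e]; exact h7)
  · rintro _ ⟨g, -, rfl⟩
    exact pslHom_mem_M24 g
  · rintro _ ⟨g, -, rfl⟩ t ht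
    apply permHom_apply_of_not
    rintro ⟨h1, h2, h3⟩
    simp only [Finset.mem_insert, Finset.mem_singleton] at ht
    rcases ht with rfl | rfl | rfl
    · exact h1 rfl
    · exact h2 rfl
    · exact h3 rfl

theorem loc_PSL3 : Loc PSL3 where
  dvd := by rw [card_PSL3]
  c3 x hx := by rw [Cfsg.Agent.H102.E7V.card_cent_three hx]
  c5 x hx := by rw [Cfsg.Agent.BpSpor.LFour.card_five hx]
  c7 x hx := by rw [Cfsg.Agent.BpSpor.LFour.card_seven hx]
  n5 x c hx := not_sq hx c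
  n7 x c hx := not_inv hx c
  zq Q hQ := zq Q hQ

theorem sq_eq_one : ∀ y : Multiplicative (ZMod 2 × ZMod 2), y ^ 2 = 1 := by decide

theorem out_PSL3 : Nat.card (Cfsg.Out PSL3) = 12 ∧ ∀ o : Cfsg.Out PSL3, o ^ 6 = 1 := by
  have := Fact.mk Nat.prime_two
  obtain ⟨φ, hs, hcyc, hk⟩ := Cfsg.Agent.S2601.result (F := F4) (p := 2) (f := 2) (n := 3) (by norm_num)
    (by rw [F4.card_eq]; norm_num) (by norm_num)
  have hk' : Nat.card φ.ker = 3 := by rw [hk]; norm_num
  have hcod : Nat.card (Multiplicative (ZMod 2 × ZMod 2)) = 4 := by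
    rw [Nat.card_eq_fintype_card]; rfl
  have hidx : φ.ker.index = 4 := by
    rw [Subgroup.index_ker, MonoidHom.range_eq_top.2 hs, Subgroup.card_top, hcod]
  constructor
  · rw [← φ.ker.card_mul_index, hidx, hk']
  · intro o
    have h2 : o ^ 2 ∈ φ.ker := by
      rw [MonoidHom.mem_ker, map_pow]
      exact sq_eq_one (φ o)
    have h3 : (⟨o ^ 2, h2⟩ : φ.ker) ^ 3 = 1 := by
      have h5 := pow_card_eq_one' (x := (⟨o ^ 2, h2⟩ : φ.ker))
      rwa [hk'] at h5
    have h4 := congrArg Subtype.val h3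
    change (o ^ 2) ^ 3 = 1 at h4
    rw [← pow_mul] at h4
    exact h4

theorem hyp_PSL3 : Hyp PSL3 where
  loc := loc_PSL3
  card := card_PSL3
  h35 := h35_PSL3
  out := out_PSL3.1
  out6 φ := by
    have h1 := out_PSL3.2 (QuotientGroup.mk φ)
    rw [← QuotientGroup.mk_pow, QuotientGroup.eq_one_iff] at h1
    obtain ⟨t, ht⟩ := h1
    exact ⟨t, ht.symm⟩
  four := four

/-- **the row `L₃(4)`** -/
theorem rowW_psl34 {F : Type} [Field F] [Fintype F] (hF : Fintype.card F = 4) :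
    RowW (Matrix.ProjectiveSpecialLinearGroup (Fin 3) F) := by
  obtain ⟨e⟩ := nonempty_psl_equiv (n := Fin 3) F hF
  have h : RowW PSL3 := hyp_PSL3.rowW
  exact h.congr e
 
end Cfsg.Agent.H587.Der34
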