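import Cfsg.Agent.H587.Der34.Orb
import Cfsg.Agent.H439.Der.Three
import Cfsg.Agent.CpAut.SmallP.PslFour

/-!
# Outer cosets (helper587)
-/

set_option autoImplicit false
set_option linter.unusedSectionVars false

namespace Cfsg.Agent.H587.Der34

open Subgroup Cfsg.Agent.H439.Der
open Cfsg.Agent.CpAut.SmallP (Singer.exists_conj_pow)

/-- the hypotheses on `T = L₃(4)` -/
structure Hyp (T : Type*) [Group T] : Prop where
  loc : Loc T
  card : Nat.card T = 20160
  h35 : ∀ R : Subgroup T, 5 ∣ Nat.card R → 7 ∣ Nat.card R → R = ⊤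
  out : Nat.card (Cfsg.Out T) = 12
  out6 : ∀ φ : MulAut T, ∃ t : T, φ ^ 6 = MulAut.conj t
  four : ∃ x : T, orderOf x = 4

namespace Hyp

variable {T : Type*} [Group T] (h : Hyp T)

include h

theorem finite : Finite T := Nat.finite_of_card_ne_zero (by rw [h.card]; norm_num)

theorem exists_prime {p : ℕ} (hp : p.Prime) (hd : p ∣ 20160) : ∃ x : T, orderOf x = p := by
  have := h.finite
  have := Fact.mk hp
  exact exists_prime_orderOf_dvd_card' p (by rw [h.card]; exact hd)

/-- an element of order 5 is conjugate to its inverse -/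
theorem inv5 {x : T} (hx : orderOf x = 5) : ∃ c : T, c * x * c⁻¹ = x⁻¹ := by
  have := h.finite
  have := Fact.mk Nat.prime_five
  by_contra hcon
  push Not at hcon
  have h1 : Nat.card (zpowers x) = 5 := by rw [Nat.card_zpowers, hx]
  have hP : IsPGroup 5 (zpowers x) := IsPGroup.of_card (n := 1) (by rw [h1, pow_one])
  have hi := h.loc.not_dvd_index (p := 5) (by norm_num) h1
  have hmod := index_normalizer_mod hP hi
  have hN : normalizer (zpowers x : Set T) ≤ centralizer ({x} : Set T) := by
    intro g hg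
    rw [mem_centralizer_singleton_iff]
    rcases h.loc.conj_five hx hg with h2 | h2
    · have h3 : g * x * g⁻¹ * g = x * g := by rw [h2]
      rwa [inv_mul_cancel_right] at h3
    · exact absurd h2 (hcon g)
  have h5 : Nat.card (normalizer (zpowers x : Set T)) ∣ 5 := (card_dvd_of_le hN).trans (h.loc.c5 x hx)
  have h5N : 5 ∣ Nat.card (normalizer (zpowers x : Set T)) := by
    rw [← h1]; exact card_dvd_of_le le_normalizer
  have h6 := Nat.dvd_antisymm h5 h5N
  have hmul := (normalizer (zpowers x : Set T)).card_mul_index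
  rw [h6, h.card] at hmul
  omega

theorem conj_ne {y x : T} (hx : orderOf x = 5) (hy : orderOf y = 7) : MulAut.conj x ≠ 1 := by
  have := h.finite
  intro h1
  have h2 : x * y * x⁻¹ = y := by
    have := DFunLike.congr_fun h1 y
    simpa using this
  have h3 : y * x = x * y := by
    have h4 : x * y * x⁻¹ * x = y * x := by rw [h2]
    rw [inv_mul_cancel_right] at h4
    exact h4.symm
  have h4 := h.loc.comm5 hx h3
  rw [hy] at h4
  norm_num at h4

omit h in
theorem pow_two_mod : ∀ n : ℕ, 2 ^ n % 5 = 1 → 4 ∣ n := by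
  intro n hn
  have h1 : n = 4 * (n / 4) + n % 4 := (Nat.div_add_mod n 4).symm
  rw [h1, pow_add, pow_mul, Nat.mul_mod, Nat.pow_mod] at hn
  norm_num at hn
  have h2 : n % 4 < 4 := Nat.mod_lt _ (by norm_num)
  apply Nat.dvd_of_mod_eq_zero
  interval_cases h3 : n % 4 <;> omega

omit h in
theorem pow_three_mod : ∀ n : ℕ, 3 ^ n % 5 = 1 → 4 ∣ n := by
  intro n hn
  have h1 : n = 4 * (n / 4) + n % 4 := (Nat.div_add_mod n 4).symm
  rw [h1, pow_add, pow_mul, Nat.mul_mod, Nat.pow_mod] at hn
  norm_num at hn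
  have h2 : n % 4 < 4 := Nat.mod_lt _ (by norm_num)
  apply Nat.dvd_of_mod_eq_zero
  interval_cases h3 : n % 4 <;> omega

omit h in
theorem iter {φ : MulAut T} {x : T} {k : ℕ} (hk : φ x = x ^ k) (n : ℕ) : (φ ^ n) x = x ^ k ^ n := by
  induction n with
  | zero => simp
  | succ n ih => rw [pow_succ, MulAut.mul_apply, hk, map_pow, ih, ← pow_mul, pow_succ]

/-- **Every outer coset contains elements of two different orders.** -/
theorem cos : Cos T := by
  have := h.finite
  intro φ _
  by_contra hcon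
  push Not at hcon
  have hn0 : 0 < orderOf φ := orderOf_pos φ
  obtain ⟨x, hx⟩ := h.exists_prime Nat.prime_five (by norm_num)
  obtain ⟨y, hy⟩ := h.exists_prime (p := 7) (by norm_num) (by norm_num)
  have hx5 : x ^ 5 = 1 := by rw [← hx]; exact pow_orderOf_eq_one x
  have hy7 : y ^ 7 = 1 := by rw [← hy]; exact pow_orderOf_eq_one y
  obtain ⟨g, k, hg⟩ := Singer.exists_conj_pow Nat.prime_five (by rw [h.card]; norm_num)
    (show orderOf (φ x) = 5 by rw [Cfsg.Agent.H938.Sax.orderOf_mulEquiv φ x]; exact hx) hx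
  have hg' : (MulAut.conj g * φ) x = x ^ k := hg
  -- centralising `x`
  have caseA : ∀ s : T, (MulAut.conj s * φ) x ≠ x := by
    intro s hs
    set ψ := MulAut.conj s * φ with hψ
    have ho : orderOf ψ = orderOf φ := hcon s
    have hcomm : MulAut.conj x * ψ = ψ * MulAut.conj x := by
      ext z
      have h2 : ψ (x * z * x⁻¹) = x * ψ z * x⁻¹ := by rw [map_mul, map_mul, map_inv, hs]
      simpa using h2.symm
    have h5 : orderOf (MulAut.conj x) = 5 := by
      have := Fact.mk Nat.prime_five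
      refine orderOf_eq_prime ?_ (h.conj_ne hx hy)
      rw [← map_pow, hx5, map_one]
    by_cases hd : 5 ∣ orderOf ψ
    · obtain ⟨u, hu⟩ := h.out6 ψ
      have h2 : ψ ^ 25 = MulAut.conj (u ^ 4 * s) * φ := by
        rw [map_mul, mul_assoc, ← hψ, map_pow, ← hu, ← pow_mul, ← pow_succ]
      have h3 : orderOf (ψ ^ 25) = orderOf ψ := by rw [h2, hcon, ho]
      rw [orderOf_pow] at h3
      have h4 : 1 < Nat.gcd (orderOf ψ) 25 := by
        have h6 : 5 ∣ Nat.gcd (orderOf ψ) 25 := Nat.dvd_gcd hd (by norm_num)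
        have h7 := Nat.le_of_dvd (Nat.gcd_pos_of_pos_right _ (by norm_num)) h6
        omega
      have h6 := Nat.div_lt_self (show 0 < orderOf ψ by rw [ho]; exact hn0) h4
      omega
    · have h2 : orderOf (MulAut.conj x * ψ) = 5 * orderOf ψ := by
        rw [(show Commute (MulAut.conj x) ψ from hcomm).orderOf_mul_eq_mul_orderOf_of_coprime
          (by rw [h5]; exact (Nat.Prime.coprime_iff_not_dvd Nat.prime_five).2 hd), h5]
      have h3 : MulAut.conj x * ψ = MulAut.conj (x * s) * φ := by rw [map_mul, mul_assoc]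
      rw [h3, hcon, ho] at h2
      omega
  have hk5 : x ^ k = x ^ (k % 5) := by
    conv_lhs => rw [← Nat.div_add_mod k 5, pow_add, pow_mul, hx5, one_pow, one_mul]
  have hx1 : x ≠ 1 := by
    rintro rfl
    rw [orderOf_one] at hx
    norm_num at hx
  have h4n : 4 ∣ orderOf φ := by
    have h2 := iter hg' (orderOf (MulAut.conj g * φ))
    rw [pow_orderOf_eq_one, MulAut.one_apply] at h2
    have h3 : x ^ 1 = x ^ k ^ orderOf (MulAut.conj g * φ) := by rw [pow_one]; exact h2
    rw [pow_inj_mod, hx, hcon, Nat.pow_mod k] at h3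
    have h6 : k % 5 < 5 := Nat.mod_lt _ (by norm_num)
    interval_cases h7 : k % 5
    · exfalso
      rw [hk5, pow_zero] at hg'
      apply hx1
      have h8 : (MulAut.conj g * φ) x = (MulAut.conj g * φ) 1 := by rw [hg', map_one]
      exact (MulAut.conj g * φ).injective h8
    · exfalso
      rw [hk5, pow_one] at hg'
      exact caseA g hg'
    · exact pow_two_mod _ h3.symm
    · exact pow_three_mod _ h3.symm
    · exfalso
      obtain ⟨c, hc⟩ := h.inv5 hx
      apply caseA (c * g)
      rw [map_mul, mul_assoc, MulAut.mul_apply, hg', hk5]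
      have h8 : x ^ 4 = x⁻¹ := eq_inv_of_mul_eq_one_left (by rw [← pow_succ, hx5])
      show c * x ^ 4 * c⁻¹ = x
      rw [h8]
      have h9 : c * x⁻¹ * c⁻¹ = (c * x * c⁻¹)⁻¹ := by group
      rw [h9, hc, inv_inv]
  -- an element of order prime to 4
  obtain ⟨g', l, hg2⟩ := Singer.exists_conj_pow (p := 7) (by norm_num) (by rw [h.card]; norm_num)
    (show orderOf (φ y) = 7 by rw [Cfsg.Agent.H938.Sax.orderOf_mulEquiv φ y]; exact hy) hy
  have hg2' : (MulAut.conj g' * φ) y = y ^ l := hg2
  have hy1 : y ≠ 1 := by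
    rintro rfl
    rw [orderOf_one] at hy
    norm_num at hy
  have hl0 : l % 7 ≠ 0 := by
    intro hl
    have h8 : y ^ l = 1 := by
      rw [← Nat.div_add_mod l 7, hl, add_zero, pow_mul, hy7, one_pow]
    rw [h8] at hg2'
    apply hy1
    have h9 : (MulAut.conj g' * φ) y = (MulAut.conj g' * φ) 1 := by rw [hg2', map_one]
    exact (MulAut.conj g' * φ).injective h9
  obtain ⟨u, hu⟩ := h.out6 (MulAut.conj g' * φ)
  have h2 := iter hg2' 6
  have h3 : y ^ l ^ 6 = y ^ 1 := by
    rw [pow_inj_mod, hy, Nat.pow_mod]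
    have h6 : l % 7 < 7 := Nat.mod_lt _ (by norm_num)
    interval_cases h7 : l % 7
    · exact absurd rfl hl0
    all_goals norm_num
  rw [hu, h3, pow_one] at h2
  have h4 : u * y * u⁻¹ = y := h2
  have h5 : u * y = y * u := by
    have h6 : u * y * u⁻¹ * u = y * u := by rw [h4]
    rwa [inv_mul_cancel_right] at h6
  have h6 := h.loc.comm7 hy h5
  have h7 : (MulAut.conj g' * φ) ^ 42 = 1 := by
    rw [show (42 : ℕ) = 6 * 7 by norm_num, pow_mul, hu, ← map_pow, orderOf_dvd_iff_pow_eq_one.1 h6, map_one]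
  have h8 := orderOf_dvd_of_pow_eq_one h7
  rw [hcon] at h8
  have h9 := h4n.trans h8
  norm_num at h9

end Hyp

end Cfsg.Agent.H587.Der34
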