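import Mathlib

/-!
# Free actions, normalisers of Sylow subgroups of prime order, Frattini (helper587)
-/

set_option autoImplicit false

namespace Cfsg.Agent.H587.Der34

open Subgroup

/-- a free action -/
theorem card_dvd_of_free {A β : Type*} [Group A] [Finite A] [MulAction A β] [Finite β]
    (h : ∀ b : β, MulAction.stabilizer A b = ⊥) : Nat.card A ∣ Nat.card β := by
  have e := MulAction.selfEquivOrbitsQuotientProd h
  rw [Nat.card_congr e, Nat.card_prod]
  exact dvd_mul_left _ _

theorem card_ne_one_subtype {M : Type*} [Group M] [Finite M] : Nat.card {m : M // m ≠ 1} = Nat.card M - 1 := by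
  classical
  have h1 := Nat.card_congr (Equiv.sumCompl (fun m : M => m = 1))
  rw [Nat.card_sum] at h1
  have h2 : Nat.card {m : M // m = 1} = 1 := by
    rw [Nat.card_eq_one_iff_unique]
    exact ⟨⟨fun a b => Subtype.ext (a.2.trans b.2.symm)⟩, ⟨⟨1, rfl⟩⟩⟩
  have h3 : Nat.card {m : M // ¬ m = 1} = Nat.card {m : M // m ≠ 1} := rfl
  omega

section

variable {G : Type*} [Group G]

/-- `A` normalises `M` -/
def Nrm (A M : Subgroup G) : Prop := ∀ a ∈ A, ∀ m ∈ M, a * m * a⁻¹ ∈ M

/-- the action on the nontrivial elements -/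
abbrev actNe {A M : Subgroup G} (h : Nrm A M) : MulAction A {m : M // m ≠ 1} where
  smul a m := ⟨⟨a * (m : M) * (a : G)⁻¹, h a a.2 _ m.1.2⟩, fun h1 => m.2 (by
    have h2 : (a : G) * (m : M) * (a : G)⁻¹ = 1 := congrArg Subtype.val h1
    have h3 : ((m : M) : G) = 1 := by
      have h4 : ((m : M) : G) = (a : G)⁻¹ * ((a : G) * (m : M) * (a : G)⁻¹) * a := by group
      rw [h4, h2]
      group
    exact Subtype.ext h3)⟩
  one_smul m := Subtype.ext (Subtype.ext (by
    show ((1 : A) : G) * (m : M) * ((1 : A) : G)⁻¹ = (m : M)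
    simp))
  mul_smul a b m := Subtype.ext (Subtype.ext (by
    show ((a * b : A) : G) * (m : M) * ((a * b : A) : G)⁻¹ = (a : G) * ((b : G) * (m : M) * (b : G)⁻¹) * (a : G)⁻¹
    rw [Subgroup.coe_mul]
    group))

/-- a group acting freely on the nontrivial elements of a subgroup -/
theorem dvd_of_conj_free [Finite G] {A M : Subgroup G} (hAM : Nrm A M)
    (hfree : ∀ a ∈ A, ∀ m ∈ M, m ≠ 1 → a * m * a⁻¹ = m → a = 1) : Nat.card A ∣ Nat.card M - 1 := by
  let _ := actNe hAM
  rw [← card_ne_one_subtype]
  refine card_dvd_of_free fun b => ?_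
  rw [eq_bot_iff]
  intro a ha
  have h1 : a • b = b := ha
  have h2 : (a : G) * ((b : M) : G) * (a : G)⁻¹ = (b : M) :=
    congrArg (fun x : {m : M // m ≠ 1} => ((x : M) : G)) h1
  rw [mem_bot]
  exact Subtype.ext (hfree a a.2 _ b.1.2 (fun h3 => b.2 (Subtype.ext h3)) h2)

/-- the number of Sylow subgroups: a subgroup `P` of order `p ^ k` and index prime to `p` -/
theorem index_normalizer_mod [Finite G] {p : ℕ} [hp : Fact p.Prime] {P : Subgroup G} (hP : IsPGroup p P)
    (hi : ¬ p ∣ P.index) : (normalizer (P : Set G)).index % p = 1 := by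
  have h1 := (hP.toSylow hi).card_eq_index_normalizer
  have h2 := card_sylow_modEq_one p G
  rw [h1] at h2
  have h3 : (normalizer (P : Set G)).index ≡ 1 [MOD p] := h2
  rw [Nat.ModEq, Nat.mod_eq_of_lt hp.out.one_lt] at h3
  exact h3

/-- **Burnside**: a complement of a self-centralising Sylow subgroup in its own normaliser -/
theorem exists_complement [Finite G] {p : ℕ} [hp : Fact p.Prime] {P : Subgroup G} (hP : IsPGroup p P)
    (hi : ¬ p ∣ P.index) (hc : normalizer (P : Set G) ≤ centralizer (P : Set G)) :
    ∃ K : Subgroup G, K.Normal ∧ K.index = Nat.card P := by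
  refine ⟨(MonoidHom.transferSylow (hP.toSylow hi) hc).ker, inferInstance, ?_⟩
  exact (MonoidHom.ker_transferSylow_isComplement' (hP.toSylow hi) hc).symm.index_eq_card

/-- **Frattini**: if `K` is normal of index divisible by `p`, then an element of order `p` normalises a
Sylow `q`-subgroup of `K` -/
theorem frattini_elt [Finite G] {p q : ℕ} [hp : Fact p.Prime] [hq : Fact q.Prime] {K : Subgroup G} [K.Normal]
    (hK : p ∣ K.index) : ∃ (g : G) (Z : Subgroup G), orderOf g = p ∧ Z ≤ K ∧ IsPGroup q Z ∧
      ¬ q ∣ Z.relIndex K ∧ Nrm (zpowers g) Z := by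
  obtain ⟨P⟩ : Nonempty (Sylow q K) := inferInstance
  have h1 := P.normalizer_sup_eq_top
  set N := normalizer ((P.map K.subtype : Subgroup G) : Set G) with hN
  have h2 : K.relIndex N = K.index := by
    rw [← relIndex_top_right, ← h1]
    exact (relIndex_sup_right N K).symm
  have h3 : p ∣ Nat.card N := by
    rw [← h2] at hK
    exact hK.trans (relIndex_dvd_card K N)
  obtain ⟨g, hg⟩ := exists_prime_orderOf_dvd_card' p h3
  refine ⟨g, P.map K.subtype, by rw [orderOf_coe, hg], ?_, P.2.map _, ?_, ?_⟩
  · rintro _ ⟨k, -, rfl⟩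
    exact k.2
  · have h4 : (P.map K.subtype : Subgroup G).relIndex K = (P : Subgroup K).index := by
      rw [relIndex, subgroupOf, comap_map_eq_self_of_injective K.subtype_injective]
    rw [h4]
    exact P.not_dvd_index
  · rintro a ha m hm
    have ha' : a ∈ N := (zpowers_le.2 g.2) ha
    exact (mem_normalizer_iff.1 ha' m).1 hm

/-- the order of the normaliser of a self-centralising subgroup of prime order -/
theorem card_normalizer_dvd [Finite G] {p : ℕ} (hp : p.Prime) {x : G} (hx : orderOf x = p)
    (hc : Nat.card (centralizer ({x} : Set G)) ∣ p) :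
    Nat.card (normalizer (zpowers x : Set G)) ∣ p * (p - 1) := by
  have hP : IsCyclic (zpowers x) := inferInstance
  have key := card_dvd_of_injective _ (QuotientGroup.kerLift_injective (zpowers x).normalizerMonoidHom)
  rw [normalizerMonoidHom_ker, ← index, hP.card_mulAut, Nat.card_zpowers, hx, Nat.totient_prime hp] at key
  rw [← ((centralizer (zpowers x : Set G)).subgroupOf (normalizer (zpowers x : Set G))).card_mul_index]
  refine Nat.mul_dvd_mul ?_ key
  refine Dvd.dvd.trans ?_ hc
  refine card_dvd_of_injective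
    (((normalizer (zpowers x : Set G)).subtype.comp
      ((centralizer (zpowers x : Set G)).subgroupOf (normalizer (zpowers x : Set G))).subtype).codRestrict
        (centralizer ({x} : Set G)) fun g => ?_) ?_
  · have hg : ((g : normalizer (zpowers x : Set G)) : G) ∈ centralizer (zpowers x : Set G) := g.2
    rw [mem_centralizer_singleton_iff]
    exact (mem_centralizer_iff.1 hg x (mem_zpowers x)).symm
  · intro a b hab
    have h1 : ((a : normalizer (zpowers x : Set G)) : G) = ((b : normalizer (zpowers x : Set G)) : G) :=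
      congrArg (fun y : centralizer ({x} : Set G) => (y : G)) hab
    exact Subtype.ext (Subtype.ext h1)

end

end Cfsg.Agent.H587.Der34
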