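import Cfsg.Agent.H587.Der34.Free

/-!
# Groups with the local structure of `L₃(4)`: the orders (helper587)
-/

set_option autoImplicit false
set_option linter.unusedSectionVars false

namespace Cfsg.Agent.H587.Der34

open Subgroup

/-- local conditions, inherited by subgroups -/
structure Loc (G : Type*) [Group G] : Prop where
  dvd : Nat.card G ∣ 20160
  c3 : ∀ x : G, orderOf x = 3 → Nat.card (centralizer ({x} : Set G)) ∣ 9
  c5 : ∀ x : G, orderOf x = 5 → Nat.card (centralizer ({x} : Set G)) ∣ 5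
  c7 : ∀ x : G, orderOf x = 7 → Nat.card (centralizer ({x} : Set G)) ∣ 7
  n5 : ∀ x c : G, orderOf x = 5 → c * x * c⁻¹ ≠ x ^ 2
  n7 : ∀ x c : G, orderOf x = 7 → c * x * c⁻¹ ≠ x⁻¹
  zq : ∀ Q : Subgroup G, Nat.card Q = 64 → Nat.card (center Q) = 4

theorem card_cent_dvd {G H : Type*} [Group G] [Group H] [Finite H] (f : G →* H) (hf : Function.Injective f) (x : G) :
    Nat.card (centralizer ({x} : Set G)) ∣ Nat.card (centralizer ({f x} : Set H)) := by
  refine card_dvd_of_injective ((f.comp (centralizer ({x} : Set G)).subtype).codRestrict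
    (centralizer ({f x} : Set H)) fun g => ?_) fun a b hab => ?_
  · rw [mem_centralizer_singleton_iff]
    have h1 := mem_centralizer_singleton_iff.1 g.2
    show f g * f x = f x * f g
    rw [← map_mul, ← map_mul, h1]
  · exact Subtype.ext (hf (congrArg (fun y : centralizer ({f x} : Set H) => (y : H)) hab))

theorem Loc.of_injective {G H : Type*} [Group G] [Group H] [Finite H] (h : Loc H) (f : G →* H)
    (hf : Function.Injective f) : Loc G := by
  have ho : ∀ x : G, orderOf (f x) = orderOf x := fun x => orderOf_injective f hf x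
  refine ⟨(card_dvd_of_injective f hf).trans h.dvd, fun x hx => (card_cent_dvd f hf x).trans (h.c3 _ (by rw [ho, hx])),
    fun x hx => (card_cent_dvd f hf x).trans (h.c5 _ (by rw [ho, hx])),
    fun x hx => (card_cent_dvd f hf x).trans (h.c7 _ (by rw [ho, hx])), fun x c hx hc => ?_, fun x c hx hc => ?_,
    fun Q hQ => ?_⟩
  · exact h.n5 (f x) (f c) (by rw [ho, hx]) (by rw [← map_inv, ← map_mul, ← map_mul, hc, map_pow])
  · exact h.n7 (f x) (f c) (by rw [ho, hx]) (by rw [← map_inv, ← map_mul, ← map_mul, hc, map_inv])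
  · let e := Q.equivMapOfInjective f hf
    rw [← h.zq (Q.map f) (by rw [← Nat.card_congr e.toEquiv, hQ])]
    exact Nat.card_congr (Subgroup.centerCongr e).toEquiv

namespace Loc

variable {G : Type*} [Group G] [Finite G] (h : Loc G)

include h

theorem sub (R : Subgroup G) : Loc R := h.of_injective R.subtype R.subtype_injective

theorem comm3 {x y : G} (hx : orderOf x = 3) (hxy : y * x = x * y) : orderOf y ∣ 9 :=
  (orderOf_dvd_natCard _ (mem_centralizer_singleton_iff.2 hxy)).trans (h.c3 x hx)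

theorem comm5 {x y : G} (hx : orderOf x = 5) (hxy : y * x = x * y) : orderOf y ∣ 5 :=
  (orderOf_dvd_natCard _ (mem_centralizer_singleton_iff.2 hxy)).trans (h.c5 x hx)

theorem comm7 {x y : G} (hx : orderOf x = 7) (hxy : y * x = x * y) : orderOf y ∣ 7 :=
  (orderOf_dvd_natCard _ (mem_centralizer_singleton_iff.2 hxy)).trans (h.c7 x hx)

/-- a `3'`-group acting on a `3`-group -/
theorem three_free {A Z : Subgroup G} (hA : Nat.Coprime (Nat.card A) 3) (hZ : IsPGroup 3 Z) (hAZ : Nrm A Z) :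
    Nat.card A ∣ Nat.card Z - 1 := by
  refine dvd_of_conj_free hAZ fun a ha m hm hm1 hc => ?_
  -- an element of order 3
  obtain ⟨k, hk⟩ := (IsPGroup.iff_orderOf.1 hZ) ⟨m, hm⟩
  have hk' : orderOf m = 3 ^ k := by rw [← hk, ← Subgroup.orderOf_coe]
  have hk0 : k ≠ 0 := by
    rintro rfl
    exact hm1 (orderOf_eq_one_iff.1 (by rw [hk', pow_zero]))
  obtain ⟨j, rfl⟩ := Nat.exists_eq_succ_of_ne_zero hk0
  have h3 : orderOf (m ^ 3 ^ j) = 3 := by
    rw [orderOf_pow_of_dvd (by positivity) (by rw [hk']; exact pow_dvd_pow 3 (Nat.le_succ j)), hk', Nat.pow_succ,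
      Nat.mul_div_cancel_left _ (by positivity)]
  have h4 : a * m = m * a := by
    have h5 : a * m * a⁻¹ * a = m * a := by rw [hc]
    rwa [inv_mul_cancel_right] at h5
  have h6 : a * m ^ 3 ^ j = m ^ 3 ^ j * a := ((show Commute a m from h4).pow_right _).eq
  have h7 := h.comm3 h3 h6
  have h8 : orderOf a ∣ Nat.card A := orderOf_dvd_natCard _ ha
  have h9 : Nat.Coprime (orderOf a) 9 := by
    have h10 : Nat.Coprime (orderOf a) 3 := Nat.Coprime.coprime_dvd_left h8 hA
    exact (show (9 : ℕ) = 3 ^ 2 by norm_num) ▸ Nat.Coprime.pow_right 2 h10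
  exact orderOf_eq_one_iff.1 (Nat.eq_one_of_dvd_coprimes h9 dvd_rfl h7)

theorem card_three {Z : Subgroup G} (hZ : IsPGroup 3 Z) (h1 : Z ≠ ⊥) : Nat.card Z = 3 ∨ Nat.card Z = 9 := by
  have := Fact.mk Nat.prime_three
  obtain ⟨k, hk⟩ := IsPGroup.iff_card.1 hZ
  have h2 : 3 ^ k ∣ 20160 := hk ▸ (card_subgroup_dvd_card Z).trans h.dvd
  have h3 : k ≤ 2 := by
    by_contra hcon
    push Not at hcon
    have h4 : 3 ^ 3 ∣ 20160 := (pow_dvd_pow 3 hcon).trans h2
    norm_num at h4
  have h4 : k ≠ 0 := by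
    rintro rfl
    rw [pow_zero] at hk
    exact h1 (card_eq_one.1 hk)
  have h5 : k = 1 ∨ k = 2 := by omega
  rcases h5 with rfl | rfl
  · left; rw [hk]; norm_num
  · right; rw [hk]; norm_num

/-- no element of order 5 or 7 normalises a nontrivial `3`-group -/
theorem no_norm {p : ℕ} (hp : p = 5 ∨ p = 7) {g : G} (hg : orderOf g = p) {Z : Subgroup G} (hZ : IsPGroup 3 Z)
    (h1 : Z ≠ ⊥) (hN : Nrm (zpowers g) Z) : False := by
  have h2 := h.three_free (A := zpowers g) (by rw [Nat.card_zpowers, hg]; rcases hp with rfl | rfl <;> norm_num) hZ hN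
  rw [Nat.card_zpowers, hg] at h2
  rcases hp with rfl | rfl <;> rcases h.card_three hZ h1 with h3 | h3 <;> rw [h3] at h2 <;> norm_num at h2

/-- a normal subgroup of index divisible by 5 or 7 is a `3'`-group -/
theorem no_three {p : ℕ} (hp : p = 5 ∨ p = 7) {K : Subgroup G} [K.Normal] (hK : p ∣ K.index) :
    ¬ 3 ∣ Nat.card K := by
  intro h3
  have := Fact.mk (show p.Prime by rcases hp with rfl | rfl <;> norm_num)
  have := Fact.mk Nat.prime_three
  obtain ⟨g, Z, hg, hZK, hZ, hZi, hN⟩ := frattini_elt (p := p) (q := 3) hK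
  refine h.no_norm hp hg hZ ?_ hN
  rintro rfl
  rw [relIndex_bot_left] at hZi
  exact hZi h3

omit h in
/-- conjugates in `⟨x⟩` -/
theorem conj_pow_lt {x g : G} {p : ℕ} (hx : orderOf x = p) (hg : g ∈ normalizer (zpowers x : Set G)) :
    ∃ k < p, g * x * g⁻¹ = x ^ k := by
  classical
  have h1 : g * x * g⁻¹ ∈ zpowers x := (mem_normalizer_iff.1 hg x).1 (mem_zpowers x)
  rw [mem_zpowers_iff_mem_range_orderOf, Finset.mem_image] at h1
  obtain ⟨k, hk, h2⟩ := h1
  rw [Finset.mem_range, hx] at hk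
  exact ⟨k, hk, h2.symm⟩

omit h in
theorem conj_iter {x g : G} {k : ℕ} (hg : g * x * g⁻¹ = x ^ k) (n : ℕ) : g ^ n * x * (g ^ n)⁻¹ = x ^ k ^ n := by
  induction n with
  | zero => simp
  | succ n ih =>
    have h1 : g ^ (n + 1) * x * (g ^ (n + 1))⁻¹ = g ^ n * (g * x * g⁻¹) * (g ^ n)⁻¹ := by
      rw [pow_succ]; group
    rw [h1, hg, ← conj_pow, ih, ← pow_mul, pow_succ]

/-- the automorphisms induced on a subgroup of order 5 -/
theorem conj_five {x g : G} (hx : orderOf x = 5) (hg : g ∈ normalizer (zpowers x : Set G)) :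
    g * x * g⁻¹ = x ∨ g * x * g⁻¹ = x⁻¹ := by
  obtain ⟨k, hk, h1⟩ := conj_pow_lt hx hg
  have h5 : x ^ 5 = 1 := by rw [← hx]; exact pow_orderOf_eq_one x
  have hx1 : x ≠ 1 := by
    rintro rfl
    rw [orderOf_one] at hx
    norm_num at hx
  interval_cases k
  · exfalso
    rw [pow_zero] at h1
    apply hx1
    have h2 : x = g⁻¹ * (g * x * g⁻¹) * g := by group
    rw [h2, h1]
    group
  · left; rw [h1, pow_one]
  · exact absurd h1 (h.n5 x g hx)
  · exfalso
    have h2 := conj_iter h1 3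
    apply h.n5 x (g ^ 3) hx
    rw [h2, show (3 ^ 3 : ℕ) = 5 * 5 + 2 by norm_num, pow_add, pow_mul, h5, one_pow, one_mul]
  · right
    rw [h1]
    exact eq_inv_of_mul_eq_one_left (by rw [← pow_succ, h5])

theorem norm_five {x : G} (hx : orderOf x = 5) : Nat.card (normalizer (zpowers x : Set G)) ∣ 10 := by
  have h1 := card_normalizer_dvd (by norm_num) hx (h.c5 x hx)
  set N := normalizer (zpowers x : Set G) with hN
  have h4 : ¬ 4 ∣ Nat.card N := by
    intro h4
    have := Fact.mk Nat.prime_two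
    obtain ⟨S, hS⟩ := Sylow.exists_subgroup_card_pow_prime (G := N) 2 (n := 2) (by simpa using h4)
    have hS' : Nat.card S = 4 := by rw [hS]; norm_num
    have hinj : Function.Injective (fun s : S => (⟨((s : N) : G) * x * ((s : N) : G)⁻¹, by
        rcases h.conj_five hx (s : N).2 with h2 | h2
        · rw [h2]; exact Set.mem_insert _ _
        · rw [h2]; exact Set.mem_insert_of_mem _ rfl⟩ : ({x, x⁻¹} : Set G))) := by
      intro s t hst
      have h2 : ((s : N) : G) * x * ((s : N) : G)⁻¹ = ((t : N) : G) * x * ((t : N) : G)⁻¹ :=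
        congrArg (fun y : ({x, x⁻¹} : Set G) => (y : G)) hst
      have h3 : (((t⁻¹ * s : S) : N) : G) * x = x * (((t⁻¹ * s : S) : N) : G) := by
        show ((t : N) : G)⁻¹ * ((s : N) : G) * x = x * (((t : N) : G)⁻¹ * ((s : N) : G))
        have h5 : ((s : N) : G) * x = ((t : N) : G) * x * ((t : N) : G)⁻¹ * ((s : N) : G) := by
          rw [← h2]; group
        rw [mul_assoc, h5]
        group
      have h5 := h.comm5 hx h3
      have h6 : orderOf (((t⁻¹ * s : S) : N) : G) ∣ 4 := by
        rw [Subgroup.orderOf_coe, Subgroup.orderOf_coe, ← hS']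
        exact orderOf_dvd_natCard _
      have h7 : orderOf (((t⁻¹ * s : S) : N) : G) = 1 := Nat.eq_one_of_dvd_coprimes (by norm_num) h5 h6
      have h8 : t⁻¹ * s = 1 := Subtype.ext (Subtype.ext (orderOf_eq_one_iff.1 h7))
      exact (inv_mul_eq_one.1 h8).symm
    have h2 := Nat.card_le_card_of_injective _ hinj
    rw [hS'] at h2
    have h3 : Nat.card ({x, x⁻¹} : Set G) ≤ 2 := by
      rw [Nat.card_coe_set_eq]
      exact (Set.ncard_insert_le _ _).trans (by rw [Set.ncard_singleton])
    exact absurd (h2.trans h3) (by norm_num)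
  have h5 : 5 * (5 - 1) = 20 := by norm_num
  rw [h5] at h1
  have h6 : ∀ n ∈ Nat.divisors 20, ¬ 4 ∣ n → n ∣ 10 := by decide
  exact h6 _ (Nat.mem_divisors.2 ⟨h1, by norm_num⟩) h4

theorem norm_seven {x : G} (hx : orderOf x = 7) : Nat.card (normalizer (zpowers x : Set G)) ∣ 21 := by
  have h1 := card_normalizer_dvd (by norm_num) hx (h.c7 x hx)
  set N := normalizer (zpowers x : Set G) with hN
  have h7 : x ^ 7 = 1 := by rw [← hx]; exact pow_orderOf_eq_one x
  have h4 : ¬ 2 ∣ Nat.card N := by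
    intro h4
    have := Fact.mk Nat.prime_two
    obtain ⟨s, hs⟩ := exists_prime_orderOf_dvd_card' 2 h4
    have hs' : orderOf (s : G) = 2 := by rw [Subgroup.orderOf_coe, hs]
    obtain ⟨k, hk, h2⟩ := conj_pow_lt hx s.2
    have h3 := conj_iter h2 2
    have h5 : (s : G) ^ 2 = 1 := by rw [← hs']; exact pow_orderOf_eq_one _
    rw [h5] at h3
    have h6 : x ^ k ^ 2 = x ^ 1 := by rw [← h3]; group
    rw [pow_inj_mod, hx] at h6
    have h8 : k = 1 ∨ k = 6 := by
      interval_cases k <;> norm_num at h6 <;> norm_num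
    rcases h8 with rfl | rfl
    · have h9 : (s : G) * x = x * (s : G) := by
        rw [pow_one] at h2
        have : (s : G) * x * (s : G)⁻¹ * s = x * s := by rw [h2]
        rwa [inv_mul_cancel_right] at this
      have h10 := h.comm7 hx h9
      rw [hs'] at h10
      norm_num at h10
    · apply h.n7 x s hx
      rw [h2]
      exact eq_inv_of_mul_eq_one_left (by rw [← pow_succ, h7])
  have h5 : 7 * (7 - 1) = 42 := by norm_num
  rw [h5] at h1
  have h6 : ∀ n ∈ Nat.divisors 42, ¬ 2 ∣ n → n ∣ 21 := by decide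
  exact h6 _ (Nat.mem_divisors.2 ⟨h1, by norm_num⟩) h4

end Loc

end Cfsg.Agent.H587.Der34
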