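import Cfsg.Agent.H587.Der34.Row

/-!
# The matrices of `L₃(4)` (helper587)
-/

set_option autoImplicit false

namespace Cfsg.Agent.H587.Der34

open Matrix Subgroup
open Cfsg.Agent.SporadicA.FieldFour
open Cfsg.Agent.ONType.Psl Cfsg.Agent.ONType.PslCard
open Cfsg.Agent.CpAut.SmallP (Singer.exists_conj_pow)
open Cfsg.Agent.CpAut.SmallP.PslFour

/-- unitriangular matrices -/
def wm (p : F4 × F4 × F4) : Matrix (Fin 3) (Fin 3) F4 := !![1, p.1, p.2.2; 0, 1, p.2.1; 0, 0, 1]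

/-- the product of unitriangular matrices -/
def wmul (p q : F4 × F4 × F4) : F4 × F4 × F4 :=
  (p.1 + q.1, p.2.1 + q.2.1, p.2.2 + q.2.2 + p.1 * q.2.1)

/-- unitriangular matrices in `SL` -/
def w (p : F4 × F4 × F4) : SL3 := ⟨wm p, by simp [wm, det_fin_three]⟩

theorem w_mul (p q : F4 × F4 × F4) : w p * w q = w (wmul p q) := by
  apply Subtype.ext
  change wm p * wm q = wm (wmul p q)
  ext i j
  fin_cases i <;> fin_cases j <;> simp [wm, wmul, Matrix.mul_apply, Fin.sum_univ_three] <;> ring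

theorem w_zero : w (0, 0, 0) = 1 := by
  apply Subtype.ext
  change wm (0, 0, 0) = 1
  ext i j
  fin_cases i <;> fin_cases j <;> simp [wm]

/-- the class in `PSL` -/
def v (p : F4 × F4 × F4) : PSL3 := QuotientGroup.mk (w p)

theorem v_mul (p q : F4 × F4 × F4) : v p * v q = v (wmul p q) := by
  rw [v, v, v, ← w_mul]
  rfl

theorem v_zero : v (0, 0, 0) = 1 := by
  rw [v, w_zero]
  rfl

theorem v_inj {p q : F4 × F4 × F4} (h : v p = v q) : p = q := by
  rw [v, v, mk_eq_iff] at h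
  obtain ⟨r, -, h⟩ := h
  have h' : ∀ i j, wm q i j = r * wm p i j := by
    intro i j
    have h1 : wm q = r • wm p := h
    rw [h1]
    rfl
  have e0 := h' 0 0
  have e1 := h' 0 1
  have e2 := h' 1 2
  have e3 := h' 0 2
  simp only [wm, Matrix.of_apply, Matrix.cons_val', Matrix.cons_val_zero, Matrix.cons_val_one, Matrix.cons_val] at e0 e1 e2 e3
  have hr : r = 1 := by simpa using e0.symm
  subst hr
  simp only [one_mul] at e1 e2 e3
  exact Prod.ext e1.symm (Prod.ext e2.symm e3.symm)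

theorem wmul_inv : ∀ p : F4 × F4 × F4, wmul p (p.1, p.2.1, p.2.2 + p.1 * p.2.1) = (0, 0, 0) := by decide +kernel

theorem v_inv (p : F4 × F4 × F4) : (v p)⁻¹ = v (p.1, p.2.1, p.2.2 + p.1 * p.2.1) := by
  apply inv_eq_of_mul_eq_one_right
  rw [v_mul, wmul_inv, v_zero]

/-- the Sylow 2-subgroup -/
def U : Subgroup PSL3 where
  carrier := {g | ∃ p, g = v p}
  mul_mem' := by
    rintro _ _ ⟨p, rfl⟩ ⟨q, rfl⟩
    exact ⟨wmul p q, v_mul p q⟩
  one_mem' := ⟨(0, 0, 0), v_zero.symm⟩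
  inv_mem' := by
    rintro _ ⟨p, rfl⟩
    exact ⟨_, v_inv p⟩

theorem card_U : Nat.card U = 64 := by
  let f : F4 × F4 × F4 → U := fun p => ⟨v p, p, rfl⟩
  have hf : Function.Bijective f := by
    constructor
    · intro p q hpq
      exact v_inj (congrArg Subtype.val hpq)
    · rintro ⟨_, p, rfl⟩
      exact ⟨p, rfl⟩
  have h4 : Nat.card F4 = 4 := by rw [Nat.card_eq_fintype_card, F4.card_eq]
  rw [← Nat.card_congr (Equiv.ofBijective f hf), Nat.card_prod, Nat.card_prod, h4]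

theorem wcomm1 : ∀ p : F4 × F4 × F4, wmul p (1, 0, 0) = wmul (1, 0, 0) p → p.2.1 = 0 := by decide +kernel
theorem wcomm2 : ∀ p : F4 × F4 × F4, wmul p (0, 1, 0) = wmul (0, 1, 0) p → p.1 = 0 := by decide +kernel
theorem wcomm3 (c : F4) (p : F4 × F4 × F4) : wmul (0, 0, c) p = wmul p (0, 0, c) := by
  simp [wmul, add_comm]

theorem card_center_U : Nat.card (center U) = 4 := by
  let f : F4 → center U := fun c => ⟨⟨v (0, 0, c), (0, 0, c), rfl⟩, by
    rw [mem_center_iff]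
    rintro ⟨_, p, rfl⟩
    apply Subtype.ext
    show v p * v (0, 0, c) = v (0, 0, c) * v p
    rw [v_mul, v_mul, wcomm3]⟩
  have hf : Function.Bijective f := by
    constructor
    · intro p q hpq
      have h1 : v (0, 0, p) = v (0, 0, q) := congrArg (fun x : center U => ((x : U) : PSL3)) hpq
      have h2 := v_inj h1
      exact congrArg (fun x : F4 × F4 × F4 => x.2.2) h2
    · rintro ⟨⟨_, p, rfl⟩, hp⟩
      rw [mem_center_iff] at hp
      have h1 : v (1, 0, 0) * v p = v p * v (1, 0, 0) := congrArg Subtype.val (hp ⟨v (1, 0, 0), _, rfl⟩)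
      have h2 : v (0, 1, 0) * v p = v p * v (0, 1, 0) := congrArg Subtype.val (hp ⟨v (0, 1, 0), _, rfl⟩)
      rw [v_mul, v_mul] at h1 h2
      have h3 := wcomm1 p (v_inj h1).symm
      have h4 := wcomm2 p (v_inj h2).symm
      refine ⟨p.2.2, Subtype.ext (Subtype.ext ?_)⟩
      show v (0, 0, p.2.2) = v p
      congr 1
      exact Prod.ext h4.symm (Prod.ext h3.symm rfl)
  have h4 : Nat.card F4 = 4 := by rw [Nat.card_eq_fintype_card, F4.card_eq]
  rw [← Nat.card_congr (Equiv.ofBijective f hf), h4]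

theorem zq (Q : Subgroup PSL3) (hQ : Nat.card Q = 64) : Nat.card (center Q) = 4 := by
  have := finite_PSL3
  have := Fact.mk Nat.prime_two
  have key : ∀ P : Subgroup PSL3, Nat.card P = 64 → IsPGroup 2 P ∧ ¬ 2 ∣ P.index := by
    intro P hP
    refine ⟨IsPGroup.of_card (n := 6) (by rw [hP]; norm_num), ?_⟩
    have h1 := P.card_mul_index
    rw [hP, card_PSL3] at h1
    omega
  obtain ⟨h1, h2⟩ := key Q hQ
  obtain ⟨h3, h4⟩ := key U card_U
  have e : Q ≃* U := Sylow.equiv (h1.toSylow h2) (h3.toSylow h4)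
  rw [← card_center_U]
  exact Nat.card_congr (Subgroup.centerCongr e).toEquiv

theorem trace7_ne : m7.trace ≠ (m7 ^ 6).trace := by
  rw [Matrix.trace_fin_three, Matrix.trace_fin_three]; decide +kernel

theorem not_inv_p7 (p : PSL3) : p * p7 ≠ p7 ^ 6 * p := by
  intro h
  obtain ⟨C, rfl⟩ := QuotientGroup.mk_surjective p
  have h1 := lift_conj (q := 7) (A := s7) (B := s7 ^ 6) (C := C) (Or.inl rfl) s7_pow
    (by rw [← pow_mul, mul_comm, pow_mul, s7_pow, one_pow]) h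
  have h2 : (C : Matrix (Fin 3) (Fin 3) F4) * m7 = m7 ^ 6 * C := by
    have h3 := congrArg Subtype.val h1
    have h4 : ((s7 ^ 6 * C : SL3) : Matrix (Fin 3) (Fin 3) F4) = ((s7 ^ 6 : SL3) : Matrix (Fin 3) (Fin 3) F4) * C := rfl
    have h5 : ((s7 ^ 6 : SL3) : Matrix (Fin 3) (Fin 3) F4) = m7 ^ 6 := Matrix.SpecialLinearGroup.coe_pow _ _
    rw [h5] at h4
    exact h3.trans h4
  apply trace7_ne
  have h3 : ((C⁻¹ : SL3) : Matrix (Fin 3) (Fin 3) F4) * (C : Matrix (Fin 3) (Fin 3) F4) = 1 := by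
    have h4 : ((C⁻¹ * C : SL3) : Matrix (Fin 3) (Fin 3) F4) = 1 := by rw [inv_mul_cancel]; rfl
    exact h4
  calc m7.trace = (((C⁻¹ : SL3) : Matrix (Fin 3) (Fin 3) F4) * (C : Matrix (Fin 3) (Fin 3) F4) * m7).trace := by
        rw [h3, one_mul]
    _ = (((C⁻¹ : SL3) : Matrix (Fin 3) (Fin 3) F4) * (m7 ^ 6 * (C : Matrix (Fin 3) (Fin 3) F4))).trace := by
        rw [mul_assoc, h2]
    _ = ((m7 ^ 6 * (C : Matrix (Fin 3) (Fin 3) F4)) * ((C⁻¹ : SL3) : Matrix (Fin 3) (Fin 3) F4)).trace := by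
        rw [Matrix.trace_mul_comm]
    _ = (m7 ^ 6).trace := by
        rw [mul_assoc, mul_eq_one_comm.1 h3, mul_one]

/-- an element of order 7 of `PSL(3,4)` is not conjugate to its inverse -/
theorem not_inv {x : PSL3} (hx : orderOf x = 7) (c : PSL3) : c * x * c⁻¹ ≠ x⁻¹ := by
  intro hc
  have := finite_PSL3
  have hp : Nat.Prime 7 := by norm_num
  obtain ⟨g, k, h⟩ := Singer.exists_conj_pow hp (by rw [card_PSL3]; norm_num) hx order_p7
  have hk : ¬ 7 ∣ k := by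
    intro hd
    obtain ⟨m, rfl⟩ := hd
    rw [pow_mul, p7_pow, one_pow] at h
    have h1 : x = 1 := by
      calc x = g⁻¹ * (g * x * g⁻¹) * g := by group
        _ = 1 := by rw [h]; group
    rw [h1, orderOf_one] at hx
    exact hp.one_lt.ne hx
  have hcop : Nat.Coprime k 7 := ((Nat.Prime.coprime_iff_not_dvd hp).2 hk).symm
  obtain ⟨l, hl⟩ : ∃ l : ℤ, p7 = (p7 ^ k) ^ l := by
    have h1 : zpowers (p7 ^ k) = zpowers p7 := by
      apply Subgroup.eq_of_le_of_card_ge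
      · rw [zpowers_le]; exact pow_mem (mem_zpowers p7) k
      · rw [Nat.card_zpowers, Nat.card_zpowers, Nat.Coprime.orderOf_pow (by rw [order_p7]; exact hcop.symm)]
    have h2 : p7 ∈ zpowers (p7 ^ k) := by rw [h1]; exact mem_zpowers p7
    obtain ⟨l, hl⟩ := mem_zpowers_iff.1 h2
    exact ⟨l, hl.symm⟩
  have h1 : (g * c * g⁻¹) * (g * x * g⁻¹) * (g * c * g⁻¹)⁻¹ = (g * x * g⁻¹)⁻¹ := by
    calc (g * c * g⁻¹) * (g * x * g⁻¹) * (g * c * g⁻¹)⁻¹ = g * (c * x * c⁻¹) * g⁻¹ := by group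
      _ = g * x⁻¹ * g⁻¹ := by rw [hc]
      _ = _ := by group
  rw [h] at h1
  have h2 : (g * c * g⁻¹) * p7 * (g * c * g⁻¹)⁻¹ = p7⁻¹ := by
    have h3 : (g * c * g⁻¹) * p7 * (g * c * g⁻¹)⁻¹ = ((g * c * g⁻¹) * p7 ^ k * (g * c * g⁻¹)⁻¹) ^ l := by
      rw [conj_zpow, ← hl]
    rw [h3, h1, _root_.inv_zpow, ← hl]
  apply not_inv_p7 (g * c * g⁻¹)
  have h4 : p7 ^ 6 = p7⁻¹ := eq_inv_of_mul_eq_one_left (by rw [← pow_succ, p7_pow])
  rw [h4, ← h2]
  group

theorem four : ∃ x : PSL3, orderOf x = 4 := by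
  have := Fact.mk Nat.prime_two
  have h2 : v (1, 1, 0) ^ 2 = v (0, 0, 1) := by
    rw [pow_two, v_mul]
    congr 1
  have h4 : v (1, 1, 0) ^ 4 = 1 := by
    rw [show (4 : ℕ) = 2 * 2 by norm_num, pow_mul, h2, pow_two, v_mul, ← v_zero]
    congr 1
  refine ⟨v (1, 1, 0), ?_⟩
  have h5 : orderOf (v (1, 1, 0)) = 2 ^ (1 + 1) := by
    refine orderOf_eq_prime_pow ?_ ?_
    · rw [pow_one, h2, ← v_zero]
      intro h6
      have h7 := v_inj h6
      revert h7
      decide +kernel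
    · exact h4
  rw [h5]; norm_num

end Cfsg.Agent.H587.Der34
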