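import Cfsg.Agent.H587.Der34.Ord

/-!
# Groups with the local structure of `L₃(4)`: `{2, 3}`-groups (helper587)
-/

set_option autoImplicit false
set_option linter.unusedSectionVars false

namespace Cfsg.Agent.H587.Der34

open Subgroup

theorem card_ne_subtype {α : Type*} [Finite α] (a : α) : Nat.card {m : α // m ≠ a} = Nat.card α - 1 := by
  classical
  have h1 := Nat.card_congr (Equiv.sumCompl (fun m : α => m = a))
  rw [Nat.card_sum] at h1
  have h2 : Nat.card {m : α // m = a} = 1 := by
    rw [Nat.card_eq_one_iff_unique]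
    exact ⟨⟨fun a b => Subtype.ext (a.2.trans b.2.symm)⟩, ⟨⟨a, rfl⟩⟩⟩
  have h3 : Nat.card {m : α // ¬ m = a} = Nat.card {m : α // m ≠ a} := rfl
  omega

namespace Loc

variable {G : Type*} [Group G] [Finite G] (h : Loc G)

include h

/-- a group of order 9 containing an element of order 3 is its centralizer -/
theorem eq_cent {P : Subgroup G} (hP : Nat.card P = 9) {z : G} (hz : orderOf z = 3) (hzP : z ∈ P) :
    P = centralizer ({z} : Set G) := by
  have := Fact.mk Nat.prime_three
  apply Subgroup.eq_of_le_of_card_ge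
  · intro g hg
    rw [mem_centralizer_singleton_iff]
    have h1 : ∀ a b : P, a * b = b * a := by
      have h2 := IsPGroup.isMulCommutative_of_card_eq_prime_sq (p := 3) (G := P) (by rw [hP]; norm_num)
      exact h2.is_comm.comm
    exact congrArg Subtype.val (h1 ⟨g, hg⟩ ⟨z, hzP⟩)
  · rw [hP]
    exact Nat.le_of_dvd (by norm_num) (h.c3 z hz)

/-- two groups of order 9 with a common nontrivial element -/
theorem eq_of_common {P Q : Subgroup G} (hP : Nat.card P = 9) (hQ : Nat.card Q = 9) {a : G} (ha : a ≠ 1) (haP : a ∈ P)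
    (haQ : a ∈ Q) : P = Q := by
  have h1 : orderOf a ∣ 9 := hP ▸ orderOf_dvd_natCard _ haP
  have h2 : 3 ∣ orderOf a := by
    have h3 : ∀ n ∈ Nat.divisors 9, n ≠ 1 → 3 ∣ n := by decide
    exact h3 _ (Nat.mem_divisors.2 ⟨h1, by norm_num⟩) fun h4 => ha (orderOf_eq_one_iff.1 h4)
  have h3 : orderOf (a ^ (orderOf a / 3)) = 3 := orderOf_pow_orderOf_div (orderOf_pos a).ne' h2
  rw [h.eq_cent hP h3 (pow_mem haP _), h.eq_cent hQ h3 (pow_mem haQ _)]

/-- the number of Sylow 3-subgroups is 1 modulo 9 -/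
theorem sylow_nine (P : Sylow 3 G) (hP : Nat.card P = 9) : 9 ∣ Nat.card (Sylow 3 G) - 1 := by
  have := Fact.mk Nat.prime_three
  have hst : ∀ a : P, (a : G) • P = P := fun a => Sylow.smul_eq_iff_mem_normalizer.2 (le_normalizer a.2)
  let _ : MulAction P {Q : Sylow 3 G // Q ≠ P} :=
    { smul := fun a Q => ⟨(a : G) • Q.1, fun h1 => Q.2 (by
        have h2 : (a : G)⁻¹ • (a : G) • Q.1 = (a : G)⁻¹ • P := by rw [h1]
        rw [inv_smul_smul] at h2
        rw [h2]
        exact hst a⁻¹)⟩
      one_smul := fun Q => Subtype.ext (one_smul G Q.1)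
      mul_smul := fun a b Q => Subtype.ext (mul_smul (a : G) (b : G) Q.1) }
  rw [← card_ne_subtype P, ← hP]
  refine card_dvd_of_free fun Q => ?_
  rw [eq_bot_iff]
  intro a ha
  rw [mem_bot]
  by_contra ha1
  have h1 : (a : G) • Q.1 = Q.1 := congrArg Subtype.val (show a • Q = Q from ha)
  have h2 : (a : G) ∈ (P : Subgroup G) ⊓ normalizer (Q.1 : Set G) :=
    ⟨a.2, Sylow.smul_eq_iff_mem_normalizer.1 h1⟩
  rw [P.2.inf_normalizer_sylow Q.1] at h2
  have h3 : Nat.card (Q.1 : Subgroup G) = 9 := by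
    rw [← hP]
    exact Nat.card_congr (Sylow.equiv Q.1 P).toEquiv
  apply Q.2
  exact (Sylow.ext (h.eq_of_common hP h3 (fun h4 => ha1 (Subtype.ext h4)) a.2 h2.2)).symm

/-- **`{2, 3}`-groups of order divisible by 9** -/
theorem nine (h9 : 9 ∣ Nat.card G) (h5 : ¬ 5 ∣ Nat.card G) (h7 : ¬ 7 ∣ Nat.card G) :
    (∃ P : Subgroup G, P.Normal ∧ Nat.card P = 9) ∧ Nat.card G ∣ 72 := by
  have := Fact.mk Nat.prime_three
  have hd : Nat.card G ∣ 576 := by
    have h2 : Nat.card G ∣ 35 * 576 := by have := h.dvd; norm_num; exact this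
    refine Nat.Coprime.dvd_of_dvd_mul_left ?_ h2
    rw [show (35 : ℕ) = 5 * 7 by norm_num]
    exact Nat.Coprime.mul_right ((Nat.Prime.coprime_iff_not_dvd (by norm_num)).2 h5).symm
      ((Nat.Prime.coprime_iff_not_dvd (by norm_num)).2 h7).symm
  obtain ⟨P⟩ : Nonempty (Sylow 3 G) := inferInstance
  have hP : Nat.card P = 9 := by
    have h1 : 3 ^ 2 ∣ Nat.card P := P.pow_dvd_card_of_pow_dvd_card (by norm_num; exact h9)
    rcases h.card_three P.2 (by
      intro hb
      rw [hb, card_bot] at h1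
      norm_num at h1) with h2 | h2
    · rw [h2] at h1; norm_num at h1
    · exact h2
  have h1 := h.sylow_nine P hP
  have h2 := P.card_eq_index_normalizer
  have hmul := (normalizer (P : Set G)).card_mul_index
  have h9N : 9 ∣ Nat.card (normalizer (P : Set G)) := by
    rw [← hP]; exact card_dvd_of_le le_normalizer
  rw [h2] at h1
  obtain ⟨c, hc⟩ := h9N
  have h64 : c * (normalizer (P : Set G)).index ∣ 64 := by
    rw [← hmul, hc, mul_assoc] at hd
    exact Nat.dvd_of_mul_dvd_mul_left (k := 9) (by norm_num) (by norm_num; exact hd)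
  have hidx : (normalizer (P : Set G)).index ∣ 64 := (dvd_mul_left _ _).trans h64
  have hcase : (normalizer (P : Set G)).index = 1 ∨ (normalizer (P : Set G)).index = 64 := by
    have h3 : ∀ n ∈ Nat.divisors 64, 9 ∣ n - 1 → n = 1 ∨ n = 64 := by decide
    exact h3 _ (Nat.mem_divisors.2 ⟨hidx, by norm_num⟩) h1
  rcases hcase with h3 | h3
  · have h4 : normalizer (P : Set G) = ⊤ := index_eq_one.1 h3
    have hPn : (P : Subgroup G).Normal := normalizer_eq_top_iff.1 h4
    refine ⟨⟨P, hPn, hP⟩, ?_⟩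
    have hc' : Nat.card G = 9 * c := by rw [← hmul, h3, mul_one, hc]
    have := Fact.mk Nat.prime_two
    obtain ⟨A⟩ : Nonempty (Sylow 2 G) := inferInstance
    -- the Sylow 2-subgroup has order `c`
    have hc64 : c ∣ 64 := (dvd_mul_right _ _).trans h64
    obtain ⟨k, hk⟩ := (Nat.dvd_prime_pow Nat.prime_two).1 (show c ∣ 2 ^ 6 by norm_num; exact hc64)
    have hA1 : 2 ^ k ∣ Nat.card A := A.pow_dvd_card_of_pow_dvd_card (by rw [hc', hk.2]; exact dvd_mul_left _ _)
    have hA3 : Nat.Coprime (Nat.card A) 3 := by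
      obtain ⟨m, hm⟩ := IsPGroup.iff_card.1 A.2
      rw [hm]
      exact Nat.Coprime.pow_left m (by norm_num)
    have hA2 := h.three_free (A := (A : Subgroup G)) (Z := (P : Subgroup G)) hA3 P.2
      fun a _ m hm => hPn.conj_mem m hm a
    rw [hP] at hA2
    have h6 : c ∣ 8 := by
      rw [hk.2]
      exact hA1.trans hA2
    rw [hc', show (72 : ℕ) = 9 * 8 by norm_num]
    exact Nat.mul_dvd_mul_left _ h6
  · exfalso
    rw [h3] at h64
    have hc1 : c = 1 := by
      have h4 : c * 64 ∣ 1 * 64 := by simpa using h64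
      exact Nat.dvd_one.1 (Nat.dvd_of_mul_dvd_mul_right (by norm_num) h4)
    rw [hc1, mul_one] at hc
    have h4 : (P : Subgroup G) = normalizer (P : Set G) :=
      Subgroup.eq_of_le_of_card_ge le_normalizer (by rw [hc, hP])
    have hcomm : ∀ a b : P, a * b = b * a := by
      have h2 := IsPGroup.isMulCommutative_of_card_eq_prime_sq (p := 3) (G := P) (by rw [hP]; norm_num)
      exact h2.is_comm.comm
    have hidx3 : ¬ 3 ∣ (P : Subgroup G).index := P.not_dvd_index
    obtain ⟨K, hK, hKi⟩ := exists_complement P.2 hidx3 (by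
      intro g hg
      have hg' : g ∈ (P : Subgroup G) := by rw [h4]; exact hg
      rw [mem_centralizer_iff]
      intro y hy
      exact (congrArg Subtype.val (hcomm ⟨g, hg'⟩ ⟨y, hy⟩)).symm)
    have hKc : Nat.card K = 64 := by
      have h6 := K.card_mul_index
      rw [hKi] at h6
      rw [h3, hc] at hmul
      have h7 : Nat.card (P : Subgroup G) = 9 := hP
      rw [h7] at h6
      omega
    refine h.no_center (A := (P : Subgroup G)) (Q := K) hKc (by
      have h7 : Nat.card (P : Subgroup G) = 9 := hP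
      rw [h7]; norm_num) fun a ha m hm hm1 hc' => ?_
    by_contra ha1
    have h8 : orderOf a ∣ 9 := by
      have h9 := orderOf_dvd_natCard (P : Subgroup G) ha
      have h7 : Nat.card (P : Subgroup G) = 9 := hP
      rwa [h7] at h9
    have h9 : 3 ∣ orderOf a := by
      have h3 : ∀ n ∈ Nat.divisors 9, n ≠ 1 → 3 ∣ n := by decide
      exact h3 _ (Nat.mem_divisors.2 ⟨h8, by norm_num⟩) fun h4 => ha1 (orderOf_eq_one_iff.1 h4)
    have h10 : orderOf (a ^ (orderOf a / 3)) = 3 := orderOf_pow_orderOf_div (orderOf_pos a).ne' h9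
    have h11 := h.comm3 h10 (y := m) (((show Commute a m from hc').pow_left _).eq).symm
    exact hm1 (orderOf_eq_one_iff.1 (Nat.eq_one_of_dvd_coprimes (by norm_num) h11 hm))

end Loc

end Cfsg.Agent.H587.Der34
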