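import Cfsg.Agent.H587.Der34.Nine

/-!
# Subgroups of index 5 (helper587)
-/

set_option autoImplicit false
set_option linter.unusedSectionVars false

namespace Cfsg.Agent.H587.Der34

open Subgroup

namespace Loc

variable {G : Type*} [Group G] [Finite G] (h : Loc G)

include h

theorem not_fix {H : Subgroup G} (hi : H.index = 5) (h3 : 3 ∣ Nat.card H) {t : G} (ht : t ∉ H)
    (hc : ∀ r ∈ H, t⁻¹ * r * t ∈ H) : False := by
  have h1 : H.map (MulAut.conj t⁻¹).toMonoidHom = H := by
    apply Subgroup.eq_of_le_of_card_ge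
    · rintro _ ⟨r, hr, rfl⟩
      have h2 := hc r hr
      simpa using h2
    · rw [Nat.card_congr (H.equivMapOfInjective (MulAut.conj t⁻¹).toMonoidHom (MulAut.conj t⁻¹).injective).toEquiv]
  have h2 : t⁻¹ ∈ normalizer (H : Set G) := by
    rw [mem_normalizer_iff]
    intro x
    constructor
    · intro hx
      rw [← h1]
      exact ⟨x, hx, by simp⟩
    · intro hx
      rw [← h1] at hx
      obtain ⟨y, hy, hyx⟩ := hx
      have h3 : t⁻¹ * y * t⁻¹⁻¹ = t⁻¹ * x * t⁻¹⁻¹ := by simpa using hyx
      have h4 : y = x := by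
        have := mul_right_cancel h3
        exact mul_left_cancel this
      rwa [h4] at hy
  have h3' : H.index = H.relIndex (normalizer (H : Set G)) * (normalizer (H : Set G)).index :=
    (relIndex_mul_index le_normalizer).symm
  have h4 : (normalizer (H : Set G)).index = 1 := by
    have h5 : (normalizer (H : Set G)).index ∣ 5 := by rw [← hi, h3']; exact dvd_mul_left _ _
    rcases (Nat.dvd_prime (by norm_num)).1 h5 with h6 | h6
    · exact h6
    · exfalso
      have h7 : Nat.card (normalizer (H : Set G)) = Nat.card H := by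
        have h8 := H.card_mul_index
        have h9 := (normalizer (H : Set G)).card_mul_index
        rw [hi] at h8
        rw [h6] at h9
        omega
      have h8 : H = normalizer (H : Set G) := Subgroup.eq_of_le_of_card_ge le_normalizer h7.le
      rw [← h8] at h2
      exact ht (by simpa using H.inv_mem h2)
  have h5 : H.Normal := normalizer_eq_top_iff.1 (index_eq_one.1 h4)
  exact h.no_three (Or.inl rfl) (K := H) (by rw [hi]) h3

/-- the action on the cosets of a subgroup of index 5 is two-transitive -/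
theorem two_trans {H : Subgroup G} (hi : H.index = 5) (h3 : 3 ∣ Nat.card H) {t t' : G} (ht : t ∉ H) (ht' : t' ∉ H) :
    ∃ r ∈ H, t⁻¹ * r * t' ∈ H := by
  classical
  by_contra hcon
  push Not at hcon
  have hX : Nat.card (G ⧸ H) = 5 := hi
  have hfin : Finite (G ⧸ H) := Nat.finite_of_card_ne_zero (by rw [hX]; norm_num)
  -- membership
  have hmk : ∀ (r : H) (s u : G), r • (QuotientGroup.mk s : G ⧸ H) = QuotientGroup.mk u ↔ u⁻¹ * (r : G) * s ∈ H := by
    intro r s u
    have h1 : r • (QuotientGroup.mk s : G ⧸ H) = QuotientGroup.mk ((r : G) * s) := rfl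
    rw [h1, eq_comm, QuotientGroup.eq, mul_assoc]
  set e : G ⧸ H := QuotientGroup.mk 1
  have key : ∀ s : G, s ∉ H → e ∉ MulAction.orbit H (QuotientGroup.mk s : G ⧸ H) ∧
      2 ≤ (MulAction.orbit H (QuotientGroup.mk s : G ⧸ H)).ncard := by
    intro s hs
    constructor
    · rintro ⟨r, hr⟩
      have h1 := (hmk r s 1).1 hr
      apply hs
      have h2 : s = (r : G)⁻¹ * (1⁻¹ * (r : G) * s) := by group
      rw [h2]
      exact H.mul_mem (H.inv_mem r.2) h1
    · by_contra hlt
      have h1 : (MulAction.orbit H (QuotientGroup.mk s : G ⧸ H)).ncard ≤ 1 := by omega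
      rw [Set.ncard_le_one_iff (Set.toFinite _)] at h1
      refine h.not_fix hi h3 hs fun r hr => ?_
      exact (hmk ⟨r, hr⟩ s s).1 (h1 (MulAction.mem_orbit _ _) (MulAction.mem_orbit_self _))
  set O := MulAction.orbit H (QuotientGroup.mk t : G ⧸ H) with hO
  set O' := MulAction.orbit H (QuotientGroup.mk t' : G ⧸ H) with hO'
  have hdisj : Disjoint O O' := by
    rw [Set.disjoint_left]
    intro x hx hx'
    have h1 : O = O' := (MulAction.orbit_eq_iff.2 hx).symm.trans (MulAction.orbit_eq_iff.2 hx')
    have h2 : (QuotientGroup.mk t : G ⧸ H) ∈ O' := by rw [← h1]; exact MulAction.mem_orbit_self _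
    obtain ⟨r, hr⟩ := h2
    exact hcon r r.2 ((hmk r t' t).1 hr)
  obtain ⟨he, h2⟩ := key t ht
  obtain ⟨he', h2'⟩ := key t' ht'
  have hun : (O ∪ O').ncard = O.ncard + O'.ncard := Set.ncard_union_eq hdisj (Set.toFinite _) (Set.toFinite _)
  have he2 : e ∉ O ∪ O' := by rintro (h4 | h4); exacts [he h4, he' h4]
  have hins : (insert e (O ∪ O')).ncard = O.ncard + O'.ncard + 1 := by
    rw [Set.ncard_insert_of_notMem he2 (Set.toFinite _), hun]
  have hle : (insert e (O ∪ O')).ncard ≤ 5 := by
    rw [← hX, ← Set.ncard_univ]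
    exact Set.ncard_le_ncard (Set.subset_univ _) (Set.toFinite _)
  rw [← hO] at h2
  rw [← hO'] at h2'
  have hO2 : O.ncard = 2 := by omega
  have hO2' : O'.ncard = 2 := by omega
  have hall : insert e (O ∪ O') = Set.univ := by
    apply Set.eq_of_subset_of_ncard_le (Set.subset_univ _) _ (Set.toFinite _)
    rw [Set.ncard_univ, hX, hins]
    omega
  -- an element of order 3
  have := Fact.mk Nat.prime_three
  obtain ⟨z, hz⟩ := exists_prime_orderOf_dvd_card' 3 h3
  have hz3 : z * z * z = 1 := by
    have h4 := pow_orderOf_eq_one z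
    rw [hz, pow_succ, pow_two] at h4
    exact h4
  have hsmall : ∀ S : Set (G ⧸ H), S.ncard = 2 → (∀ x ∈ S, z • x ∈ S) → ∀ x ∈ S, z • x = x := by
    intro S hS hzS x hx
    by_contra hne
    obtain ⟨a, b, hab, rfl⟩ := Set.ncard_eq_two.1 hS
    have h4 := hzS _ (hzS x hx)
    have h5 : z • z • x = x := by
      have h6 := hzS x hx
      rcases hx with rfl | rfl <;> rcases h6 with h6 | h6 <;> rcases h4 with h4 | h4
      · exact absurd h6 hne
      · exact absurd h6 hne
      · exact h4
      · rw [h6] at h4 ⊢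
        exact absurd (MulAction.injective z (h4.trans h6.symm)) (fun h7 => hab h7.symm)
      · rw [h6] at h4 ⊢
        exact absurd (MulAction.injective z (h4.trans h6.symm)) (fun h7 => hab h7)
      · exact h4
      · exact absurd h6 hne
      · exact absurd h6 hne
    apply hne
    have h6 : z • z • z • x = z • x := by rw [h5]
    rw [← mul_smul, ← mul_smul, hz3, one_smul] at h6
    exact h6.symm
  have hfix : ∀ x : G ⧸ H, z • x = x := by
    intro x
    have hx : x ∈ insert e (O ∪ O') := by rw [hall]; trivial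
    rcases hx with rfl | hx | hx
    · exact (hmk z 1 1).2 (by simp)
    · exact hsmall O hO2 (fun y hy => (MulAction.mapsTo_smul_orbit z _) hy) x hx
    · exact hsmall O' hO2' (fun y hy => (MulAction.mapsTo_smul_orbit z _) hy) x hx
  have hcore : (z : G) ∈ H.normalCore := by
    intro b
    have h4 := (hmk z b⁻¹ b⁻¹).1 (hfix _)
    simpa using h4
  have h3c : 3 ∣ Nat.card H.normalCore := by
    have h4 : orderOf (z : G) = 3 := by rw [Subgroup.orderOf_coe, hz]
    rw [← h4]
    exact orderOf_dvd_natCard _ hcore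
  refine h.no_three (Or.inl rfl) (K := H.normalCore) ?_ h3c
  rw [← relIndex_mul_index H.normalCore_le, hi]
  exact dvd_mul_left _ _

end Loc

end Cfsg.Agent.H587.Der34
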