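import Cfsg.Agent.H587.Der34.Loc

/-!
# Groups with the local structure of `L₃(4)`: the possible orders (helper587)
-/

set_option autoImplicit false
set_option linter.unusedSectionVars false

namespace Cfsg.Agent.H587.Der34

open Subgroup

namespace Loc

variable {G : Type*} [Group G] [Finite G] (h : Loc G)

include h

theorem not_dvd_index {p k : ℕ} (hk : ¬ p * k ∣ 20160) {P : Subgroup G} (hP : Nat.card P = k) : ¬ p ∣ P.index := by
  intro h1
  apply hk
  refine Dvd.dvd.trans ?_ h.dvd
  rw [← P.card_mul_index, hP, mul_comm]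
  exact Nat.mul_dvd_mul_left _ h1

/-- a cyclic subgroup of prime order which is its own normaliser has a normal complement -/
theorem compl_of_norm {p : ℕ} (hp : p.Prime) (hk : ¬ p * p ∣ 20160) {x : G} (hx : orderOf x = p)
    (hn : Nat.card (normalizer (zpowers x : Set G)) = p) : ∃ K : Subgroup G, K.Normal ∧ K.index = p := by
  have := Fact.mk hp
  have h1 : Nat.card (zpowers x) = p := by rw [Nat.card_zpowers, hx]
  have h2 : IsPGroup p (zpowers x) := IsPGroup.of_card (n := 1) (by rw [h1, pow_one])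
  have h3 : (zpowers x : Subgroup G) = normalizer (zpowers x : Set G) :=
    Subgroup.eq_of_le_of_card_ge le_normalizer (by rw [h1, hn])
  obtain ⟨K, hK, hKi⟩ := exists_complement h2 (h.not_dvd_index hk h1) (by
    intro g hg
    rw [← h3] at hg
    rw [mem_centralizer_iff]
    intro y hy
    obtain ⟨i, rfl⟩ := mem_zpowers_iff.1 hg
    obtain ⟨j, rfl⟩ := mem_zpowers_iff.1 hy
    rw [← zpow_add, ← zpow_add, add_comm])
  exact ⟨K, hK, by rw [hKi, h1]⟩

/-- **orders divisible by 5** -/
theorem five (h5 : 5 ∣ Nat.card G) (h7 : ¬ 7 ∣ Nat.card G) :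
    Nat.card G ∈ ({5, 10, 80, 160, 60, 360, 960} : Finset ℕ) := by
  have := Fact.mk Nat.prime_five
  obtain ⟨x, hx⟩ := exists_prime_orderOf_dvd_card' 5 h5
  have h1 : Nat.card (zpowers x) = 5 := by rw [Nat.card_zpowers, hx]
  have hP : IsPGroup 5 (zpowers x) := IsPGroup.of_card (n := 1) (by rw [h1, pow_one])
  have hi := h.not_dvd_index (p := 5) (by norm_num) h1
  have hmod := index_normalizer_mod hP hi
  have hN := h.norm_five hx
  have h5N : 5 ∣ Nat.card (normalizer (zpowers x : Set G)) := by
    rw [← h1]; exact card_dvd_of_le le_normalizer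
  have hmul := (normalizer (zpowers x : Set G)).card_mul_index
  have hcop : Nat.card G ∣ 2880 := by
    have h2 : Nat.card G ∣ 7 * 2880 := by have := h.dvd; norm_num; exact this
    exact (Nat.Coprime.dvd_of_dvd_mul_left (((Nat.Prime.coprime_iff_not_dvd (by norm_num)).2 h7).symm) h2)
  have hcases : Nat.card (normalizer (zpowers x : Set G)) = 5 ∨ Nat.card (normalizer (zpowers x : Set G)) = 10 := by
    have h6 : ∀ n ∈ Nat.divisors 10, 5 ∣ n → n = 5 ∨ n = 10 := by decide
    exact h6 _ (Nat.mem_divisors.2 ⟨hN, by norm_num⟩) h5N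
  rcases hcases with hc | hc
  · obtain ⟨K, hK, hKi⟩ := h.compl_of_norm (by norm_num) (by norm_num) hx hc
    have h3 := h.no_three (Or.inl rfl) (K := K) (by rw [hKi])
    have h4 := K.card_mul_index
    rw [hKi] at h4
    rw [hc] at hmul
    have h6 : Nat.card K ∣ 576 := by
      rw [← h4] at hcop
      exact Nat.dvd_of_mul_dvd_mul_right (k := 5) (by norm_num) (by norm_num; exact hcop)
    have h8 : Nat.card K ∣ 64 := by
      have h9 : Nat.card K ∣ 9 * 64 := by norm_num; exact h6
      refine Nat.Coprime.dvd_of_dvd_mul_left ?_ h9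
      exact (show (9 : ℕ) = 3 ^ 2 by norm_num) ▸
        Nat.Coprime.pow_right 2 (((Nat.Prime.coprime_iff_not_dvd (by norm_num)).2 h3).symm)
    have h10 : Nat.card K = (normalizer (zpowers x : Set G)).index := by omega
    rw [← h10] at hmod
    have h11 : ∀ n ∈ Nat.divisors 64, n % 5 = 1 → n * 5 ∈ ({5, 10, 80, 160, 60, 360, 960} : Finset ℕ) := by decide
    rw [← h4]
    exact h11 _ (Nat.mem_divisors.2 ⟨h8, by norm_num⟩) hmod
  · rw [hc] at hmul
    rw [← hmul] at hcop ⊢
    have h6 : (normalizer (zpowers x : Set G)).index ∣ 288 :=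
      Nat.dvd_of_mul_dvd_mul_left (k := 10) (by norm_num) (by norm_num; exact hcop)
    have h11 : ∀ n < 289, n ∣ 288 → n % 5 = 1 → 10 * n ∈ ({5, 10, 80, 160, 60, 360, 960} : Finset ℕ) := by
      decide +kernel
    exact h11 _ (by have := Nat.le_of_dvd (by norm_num) h6; omega) h6 hmod

/-- the centre of a normal subgroup of order 64 is not normalised freely -/
theorem no_center {A Q : Subgroup G} [Q.Normal] (hQ : Nat.card Q = 64) (hA : ¬ Nat.card A ∣ 3)
    (hfree : ∀ a ∈ A, ∀ m : G, orderOf m ∣ 4 → m ≠ 1 → a * m = m * a → a = 1) : False := by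
  apply hA
  have h1 := h.zq Q hQ
  have h2 : Nat.card ((center Q).map Q.subtype) = 4 := by
    rw [← h1]
    exact Nat.card_congr ((center Q).equivMapOfInjective _ Q.subtype_injective).symm.toEquiv
  have h3 : Nat.card A ∣ Nat.card ((center Q).map Q.subtype) - 1 := by
    refine dvd_of_conj_free ?_ fun a ha m hm hm1 hc => ?_
    · rintro a - _ ⟨z, hz, rfl⟩
      have h4 := mem_center_iff.1 hz
      refine ⟨⟨a * (z : G) * a⁻¹, (inferInstance : Q.Normal).conj_mem _ z.2 a⟩, ?_, rfl⟩
      show _ ∈ center Q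
      rw [mem_center_iff]
      intro w
      apply Subtype.ext
      have h5 := congrArg Subtype.val (h4 ⟨a⁻¹ * (w : G) * a⁻¹⁻¹, (inferInstance : Q.Normal).conj_mem _ w.2 a⁻¹⟩)
      have h6 : a⁻¹ * (w : G) * a⁻¹⁻¹ * (z : G) = (z : G) * (a⁻¹ * (w : G) * a⁻¹⁻¹) := h5
      show (w : G) * (a * (z : G) * a⁻¹) = a * (z : G) * a⁻¹ * (w : G)
      have h7 : (w : G) * (a * (z : G) * a⁻¹) = a * (a⁻¹ * (w : G) * a⁻¹⁻¹ * (z : G)) * a⁻¹ := by group
      rw [h7, h6]
      group
    · refine hfree a ha m ?_ hm1 ?_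
      · rw [← h2]
        exact orderOf_dvd_natCard _ hm
      · have h5 : a * m * a⁻¹ * a = m * a := by rw [hc]
        rwa [inv_mul_cancel_right] at h5
  rwa [h2] at h3

theorem seven_aux (h7 : 7 ∣ Nat.card G) (h5 : ¬ 5 ∣ Nat.card G) :
    Nat.card G ∈ ({7, 21, 56, 168, 1344} : Finset ℕ) := by
  have := Fact.mk (show (7 : ℕ).Prime by norm_num)
  obtain ⟨x, hx⟩ := exists_prime_orderOf_dvd_card' 7 h7
  have h1 : Nat.card (zpowers x) = 7 := by rw [Nat.card_zpowers, hx]
  have hP : IsPGroup 7 (zpowers x) := IsPGroup.of_card (n := 1) (by rw [h1, pow_one])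
  have hi := h.not_dvd_index (p := 7) (by norm_num) h1
  have hmod := index_normalizer_mod hP hi
  have hN := h.norm_seven hx
  have h7N : 7 ∣ Nat.card (normalizer (zpowers x : Set G)) := by
    rw [← h1]; exact card_dvd_of_le le_normalizer
  have hmul := (normalizer (zpowers x : Set G)).card_mul_index
  have hcop : Nat.card G ∣ 4032 := by
    have h2 : Nat.card G ∣ 5 * 4032 := by have := h.dvd; norm_num; exact this
    exact (Nat.Coprime.dvd_of_dvd_mul_left (((Nat.Prime.coprime_iff_not_dvd (by norm_num)).2 h5).symm) h2)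
  have hcases : Nat.card (normalizer (zpowers x : Set G)) = 7 ∨ Nat.card (normalizer (zpowers x : Set G)) = 21 := by
    have h6 : ∀ n ∈ Nat.divisors 21, 7 ∣ n → n = 7 ∨ n = 21 := by decide
    exact h6 _ (Nat.mem_divisors.2 ⟨hN, by norm_num⟩) h7N
  rcases hcases with hc | hc
  · obtain ⟨K, hK, hKi⟩ := h.compl_of_norm (by norm_num) (by norm_num) hx hc
    have h3 := h.no_three (Or.inr rfl) (K := K) (by rw [hKi])
    have h4 := K.card_mul_index
    rw [hKi] at h4
    rw [hc] at hmul
    have h6 : Nat.card K ∣ 576 := by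
      rw [← h4] at hcop
      exact Nat.dvd_of_mul_dvd_mul_right (k := 7) (by norm_num) (by norm_num; exact hcop)
    have h8 : Nat.card K ∣ 64 := by
      have h9 : Nat.card K ∣ 9 * 64 := by norm_num; exact h6
      refine Nat.Coprime.dvd_of_dvd_mul_left ?_ h9
      exact (show (9 : ℕ) = 3 ^ 2 by norm_num) ▸
        Nat.Coprime.pow_right 2 (((Nat.Prime.coprime_iff_not_dvd (by norm_num)).2 h3).symm)
    have h10 : Nat.card K = (normalizer (zpowers x : Set G)).index := by omega
    rw [← h10] at hmod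
    by_cases h64 : Nat.card K = 64
    · exfalso
      refine h.no_center (A := zpowers x) (Q := K) h64 (by rw [h1]; norm_num) fun a ha m hm hm1 hc => ?_
      by_contra ha1
      have h12 : orderOf a = 7 := by
        have h13 : orderOf a ∣ 7 := h1 ▸ orderOf_dvd_natCard _ ha
        exact ((Nat.dvd_prime (by norm_num)).1 h13).resolve_left fun h14 => ha1 (orderOf_eq_one_iff.1 h14)
      have h13 := h.comm7 h12 (y := m) hc.symm
      exact hm1 (orderOf_eq_one_iff.1 (Nat.eq_one_of_dvd_coprimes (by norm_num) h13 hm))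
    · have h11 : ∀ n ∈ Nat.divisors 64, n % 7 = 1 → n ≠ 64 → n * 7 ∈ ({7, 21, 56, 168, 1344} : Finset ℕ) := by
        decide
      rw [← h4]
      exact h11 _ (Nat.mem_divisors.2 ⟨h8, by norm_num⟩) hmod h64
  · rw [hc] at hmul
    rw [← hmul] at hcop ⊢
    have h6 : (normalizer (zpowers x : Set G)).index ∣ 192 :=
      Nat.dvd_of_mul_dvd_mul_left (k := 21) (by norm_num) (by norm_num; exact hcop)
    have h11 : ∀ n < 193, n ∣ 192 → n % 7 = 1 → 21 * n ∈ ({7, 21, 56, 168, 1344} : Finset ℕ) := by
      decide +kernel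
    exact h11 _ (by have := Nat.le_of_dvd (by norm_num) h6; omega) h6 hmod

/-- **orders divisible by 7** -/
theorem seven (h7 : 7 ∣ Nat.card G) (h5 : ¬ 5 ∣ Nat.card G) :
    Nat.card G ∈ ({7, 21, 56, 168} : Finset ℕ) := by
  have h1 := h.seven_aux h7 h5
  by_cases h2 : Nat.card G = 1344
  · exfalso
    have := Fact.mk Nat.prime_three
    obtain ⟨z, hz⟩ := exists_prime_orderOf_dvd_card' (G := G) 3 (by rw [h2]; norm_num)
    have h3 : Nat.card (zpowers z) = 3 := by rw [Nat.card_zpowers, hz]
    have hP : IsPGroup 3 (zpowers z) := IsPGroup.of_card (n := 1) (by rw [h3, pow_one])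
    have hi : ¬ 3 ∣ (zpowers z).index := by
      have h4 := (zpowers z).card_mul_index
      rw [h3, h2] at h4
      have h6 : (zpowers z).index = 448 := by omega
      rw [h6]
      norm_num
    have hmod := index_normalizer_mod hP hi
    have hc : Nat.card (centralizer ({z} : Set G)) ∣ 3 := by
      have h4 := h.c3 z hz
      have h6 : Nat.card (centralizer ({z} : Set G)) ∣ 1344 := h2 ▸ card_subgroup_dvd_card _
      have h8 := Nat.dvd_gcd h4 h6
      norm_num at h8
      exact h8
    have hN := card_normalizer_dvd (by norm_num) hz hc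
    have h3N : 3 ∣ Nat.card (normalizer (zpowers z : Set G)) := by
      rw [← h3]; exact card_dvd_of_le le_normalizer
    have hmul := (normalizer (zpowers z : Set G)).card_mul_index
    have hcases : Nat.card (normalizer (zpowers z : Set G)) = 3 ∨ Nat.card (normalizer (zpowers z : Set G)) = 6 := by
      have h6 : ∀ n ∈ Nat.divisors 6, 3 ∣ n → n = 3 ∨ n = 6 := by decide
      exact h6 _ (Nat.mem_divisors.2 ⟨by simpa using hN, by norm_num⟩) h3N
    rcases hcases with h4 | h4
    · have h6 : zpowers z = normalizer (zpowers z : Set G) :=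
        Subgroup.eq_of_le_of_card_ge le_normalizer (by rw [h3, h4])
      obtain ⟨K, hK, hKi⟩ := exists_complement hP hi (by
        intro g hg
        rw [← h6] at hg
        rw [mem_centralizer_iff]
        intro y hy
        obtain ⟨i, rfl⟩ := mem_zpowers_iff.1 hg
        obtain ⟨j, rfl⟩ := mem_zpowers_iff.1 hy
        rw [← zpow_add, ← zpow_add, add_comm])
      have h8 := K.card_mul_index
      rw [hKi, h3, h2] at h8
      have h9 : Nat.card K = 448 := by omega
      have h10 := (h.sub K).seven_aux (by rw [h9]; norm_num) (by rw [h9]; norm_num)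
      rw [h9] at h10
      revert h10
      decide
    · rw [h4, h2] at hmul
      have h6 : (normalizer (zpowers z : Set G)).index = 224 := by omega
      rw [h6] at hmod
      norm_num at hmod
  · have h3 : ∀ n ∈ ({7, 21, 56, 168, 1344} : Finset ℕ), n ≠ 1344 → n ∈ ({7, 21, 56, 168} : Finset ℕ) := by decide
    exact h3 _ h1 h2

end Loc

end Cfsg.Agent.H587.Der34
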