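import Cfsg.Agent.H587.Der34.Cos

/-!
# The row of `L₃(4)`, from the hypotheses `Hyp` (helper587)
-/

set_option autoImplicit false
set_option linter.unusedSectionVars false

namespace Cfsg.Agent.H587.Der34

open Subgroup Cfsg.Agent.H439.Der Cfsg.Agent.H938.Sax

/-- a group of order 60 with the local structure has no elements of order 4 -/
theorem Loc.sixty {G : Type*} [Group G] [Finite G] (h : Loc G) (hG : Nat.card G = 60) (y : G) : orderOf y ≠ 4 := by
  intro hy
  have := Fact.mk Nat.prime_two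
  have h1 : Nat.card (zpowers y) = 4 := by rw [Nat.card_zpowers, hy]
  have hP : IsPGroup 2 (zpowers y) := IsPGroup.of_card (n := 2) (by rw [h1]; norm_num)
  have h2 := (zpowers y).card_mul_index
  rw [h1, hG] at h2
  have h3 : (zpowers y).index = 15 := by omega
  have hi : ¬ 2 ∣ (zpowers y).index := by rw [h3]; norm_num
  have hcyc : IsCyclic (hP.toSylow hi) := (inferInstance : IsCyclic (zpowers y))
  have hmin : (Nat.card G).minFac = 2 := by rw [hG]; norm_num
  obtain ⟨K, hK, hKi⟩ := exists_complement hP hi (hcyc.normalizer_le_centralizer hmin)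
  have h4 := K.card_mul_index
  rw [hKi, h1, hG] at h4
  have h5 : Nat.card K = 15 := by omega
  have h6 := (h.sub K).five (by rw [h5]; norm_num) (by rw [h5]; norm_num)
  rw [h5] at h6
  revert h6
  decide

/-- the possible orders of proper subgroups -/
def ords : Finset ℕ :=
  {7, 21, 56, 168, 5, 10, 80, 160, 60, 360, 960, 1, 2, 3, 4, 6, 8, 9, 12, 18, 24, 36, 72, 16, 32, 64, 48, 96, 192}

namespace Hyp

variable {T : Type*} [Group T] (h : Hyp T)

include h

theorem ord_mem {R : Subgroup T} (hR : R ≠ ⊤) : Nat.card R ∈ ords := by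
  have := h.finite
  have hL := h.loc.sub R
  by_cases h7 : 7 ∣ Nat.card R
  · have h5 : ¬ 5 ∣ Nat.card R := fun h5 => hR (h.h35 R h5 h7)
    have h1 := hL.seven h7 h5
    have h2 : ∀ n ∈ ({7, 21, 56, 168} : Finset ℕ), n ∈ ords := by decide
    exact h2 _ h1
  · by_cases h5 : 5 ∣ Nat.card R
    · have h1 := hL.five h5 h7
      have h2 : ∀ n ∈ ({5, 10, 80, 160, 60, 360, 960} : Finset ℕ), n ∈ ords := by decide
      exact h2 _ h1
    · by_cases h9 : 9 ∣ Nat.card R
      · have h1 := (hL.nine h9 h5 h7).2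
        have h2 : ∀ n ∈ Nat.divisors 72, n ∈ ords := by decide
        exact h2 _ (Nat.mem_divisors.2 ⟨h1, by norm_num⟩)
      · have h1 : Nat.card R ∣ 576 := by
          have h2 : Nat.card R ∣ 35 * 576 := by have := hL.dvd; norm_num; exact this
          refine Nat.Coprime.dvd_of_dvd_mul_left ?_ h2
          rw [show (35 : ℕ) = 5 * 7 by norm_num]
          exact Nat.Coprime.mul_right ((Nat.Prime.coprime_iff_not_dvd (by norm_num)).2 h5).symm
            ((Nat.Prime.coprime_iff_not_dvd (by norm_num)).2 h7).symm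
        have h2 : ∀ n < 577, n ∣ 576 → ¬ 9 ∣ n → n ∈ ords := by decide +kernel
        exact h2 _ (by have := Nat.le_of_dvd (by norm_num) h1; omega) h1 h9

/-- a subgroup of order 360 has no subgroup of order 72 -/
theorem no72 {R M : Subgroup T} (hRM : R ≤ M) (hR : Nat.card R = 72) (hM : Nat.card M = 360) : False := by
  have := h.finite
  have := Fact.mk Nat.prime_three
  have hL := h.loc.sub R
  obtain ⟨⟨P, hP, hPc⟩, -⟩ := hL.nine (by rw [hR]; norm_num) (by rw [hR]; norm_num) (by rw [hR]; norm_num)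
  -- `P` as a subgroup of `M`
  set f : R →* M := inclusion hRM with hf
  have hfi : Function.Injective f := inclusion_injective hRM
  have h1 : Nat.card (P.map f) = 9 := by
    rw [← hPc]
    exact Nat.card_congr (P.equivMapOfInjective f hfi).symm.toEquiv
  have hPg : IsPGroup 3 (P.map f) := IsPGroup.of_card (n := 2) (by rw [h1]; norm_num)
  have h2 := (P.map f).card_mul_index
  rw [h1, hM] at h2
  have h3 : (P.map f).index = 40 := by omega
  have hmod := index_normalizer_mod hPg (by rw [h3]; norm_num)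
  have h4 : f.range ≤ normalizer ((P.map f : Subgroup M) : Set M) := by
    rintro _ ⟨r, rfl⟩
    rw [mem_normalizer_iff]
    have key : ∀ (r : R) (x : M), x ∈ P.map f → f r * x * (f r)⁻¹ ∈ P.map f := by
      rintro r _ ⟨p, hp, rfl⟩
      exact ⟨r * p * r⁻¹, hP.conj_mem p hp r, by simp⟩
    intro x
    refine ⟨key r x, fun hx => ?_⟩
    have h5 := key r⁻¹ _ hx
    have h6 : f r⁻¹ * (f r * x * (f r)⁻¹) * (f r⁻¹)⁻¹ = x := by rw [map_inv]; group
    rwa [h6] at h5
  have h5 : 72 ∣ Nat.card (normalizer ((P.map f : Subgroup M) : Set M)) := by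
    rw [← hR, Nat.card_congr (MonoidHom.ofInjective hfi).toEquiv]
    exact card_dvd_of_le h4
  have h6 := (normalizer ((P.map f : Subgroup M) : Set M)).card_mul_index
  obtain ⟨c, hc⟩ := h5
  rw [hc, hM] at h6
  set i := (normalizer ((P.map f : Subgroup M) : Set M)).index with hi
  have h7 : c * i = 5 := by
    have h8 : 72 * (c * i) = 360 := by rw [← mul_assoc]; exact h6
    omega
  have h8 : i = 1 ∨ i = 5 := (Nat.dvd_prime (by norm_num)).1 (h7 ▸ dvd_mul_left _ _)
  rcases h8 with h8 | h8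
  · -- `P` normal in `M`
    have h9 : normalizer ((P.map f : Subgroup M) : Set M) = ⊤ := index_eq_one.1 (hi ▸ h8)
    have h10 : (P.map f).Normal := normalizer_eq_top_iff.1 h9
    have h11 := (h.loc.sub M).no_three (Or.inl rfl) (K := P.map f) (by rw [h3]; norm_num)
    rw [h1] at h11
    norm_num at h11
  · rw [h8] at hmod
    norm_num at hmod

/-- **maximal subgroups** -/
theorem coatom {R : Subgroup T} (hR : R ≠ ⊤)
    (hc : Nat.card R ∈ ({168, 360, 960, 72} : Finset ℕ)) : IsCoatom R := by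
  have := h.finite
  refine ⟨hR, fun M hM => ?_⟩
  by_contra hMt
  have h1 := card_dvd_of_le hM.le
  have h2 := h.ord_mem hMt
  have h3 : Nat.card R ≠ Nat.card M := by
    intro h4
    exact hM.ne (Subgroup.eq_of_le_of_card_ge hM.le h4.ge)
  have h4 : ∀ n ∈ ({168, 360, 960, 72} : Finset ℕ), ∀ m ∈ ords, n ∣ m → n ≠ m → n = 72 ∧ m = 360 := by decide
  obtain ⟨h5, h6⟩ := h4 _ hc _ h2 h1 h3
  exact h.no72 hM.le h5 h6

theorem not_mem {R : Subgroup T} {v : ℕ} (hv : ¬ v ∣ Nat.card R) {x : T} (hx : orderOf x = v) (g : T) :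
    g * x * g⁻¹ ∉ R := by
  have h1 := not_mem_of_dvd hv (x := x) (by rw [hx]) (MulAut.conj g)
  simpa using h1

omit h in
theorem conj_order (g x : T) : orderOf (g * x * g⁻¹) = orderOf x := by
  have h1 := orderOf_mulEquiv (MulAut.conj g) x
  simpa using h1

/-- three classes, 7 missing -/
theorem threeT_seven {R : Subgroup T} (h7 : ¬ 7 ∣ Nat.card R) {z : T} (hz : orderOf z ≠ 7)
    (hzR : ∀ g : T, g * z * g⁻¹ ∉ R) : ThreeT T R := by
  obtain ⟨y, hy⟩ := h.exists_prime (p := 7) (by norm_num) (by norm_num)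
  refine ⟨y, y⁻¹, z, h.not_mem h7 hy, h.not_mem h7 (by rw [orderOf_inv, hy]), hzR, fun g => ?_, fun g hg => hz ?_,
    fun g hg => hz ?_⟩
  · exact h.loc.n7 y g hy
  · rw [← hg, conj_order, hy]
  · rw [← hg, conj_order, orderOf_inv, hy]

/-- three classes, 5 missing -/
theorem threeT_five {R : Subgroup T} (h5 : ¬ 5 ∣ Nat.card R) {z : T} (hz : orderOf z ≠ 5)
    (hzR : ∀ g : T, g * z * g⁻¹ ∉ R) : ThreeT T R := by
  have := h.finite
  obtain ⟨x, hx⟩ := h.exists_prime (p := 5) (by norm_num) (by norm_num)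
  have hx2 : orderOf (x ^ 2) = 5 := by rw [Nat.Coprime.orderOf_pow (by rw [hx]; norm_num), hx]
  refine ⟨x, x ^ 2, z, h.not_mem h5 hx, h.not_mem h5 hx2, hzR, fun g => ?_, fun g hg => hz ?_,
    fun g hg => hz ?_⟩
  · exact h.loc.n5 x g hx
  · rw [← hg, conj_order, hx]
  · rw [← hg, conj_order, hx2]

theorem noOne {R : Subgroup T} (h2 : ¬ R.index % 2 = 1) (h3 : ¬ R.index % 3 = 1) : NoOne T R := by
  intro s hs hd h1
  rw [h.out] at hd
  have h4 : s = 2 ∨ s = 3 := by
    have h5 : s ∈ Nat.primeFactors 12 := Nat.mem_primeFactors.2 ⟨hs, hd, by norm_num⟩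
    have h6 : Nat.primeFactors 12 = {2, 3} := by decide +kernel
    rw [h6] at h5
    simpa using h5
  rcases h4 with rfl | rfl
  · exact h2 h1
  · exact h3 h1

theorem outBadN {R : Subgroup T} (hR : Nat.card R = 192) : OutBadN T R := by
  have := h.finite
  rintro φ - hφR ⟨N, hRN, hN, hφN⟩
  have hNt : N ≠ ⊤ := hN.ne
  have h1 := card_dvd_of_le hRN.le
  have h2 := h.ord_mem hNt
  have h3 : Nat.card R ≠ Nat.card N := fun h4 => hRN.ne (Subgroup.eq_of_le_of_card_ge hRN.le h4.ge)
  rw [hR] at h1 h3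
  have h4 : Nat.card N = 960 := by
    have h5 : ∀ m ∈ ords, 192 ∣ m → 192 ≠ m → m = 960 := by decide
    exact h5 _ h2 h1 h3
  obtain ⟨t, htN, htR⟩ := SetLike.exists_of_lt hRN
  have h5 : φ t ∈ N := by rw [← hφN]; exact ⟨t, htN, rfl⟩
  have h6 : φ t ∉ R := by
    intro h7
    rw [← hφR] at h7
    obtain ⟨r, hr, hrt⟩ := h7
    have h8 : r = t := φ.injective hrt
    exact htR (h8 ▸ hr)
  have hi : (R.subgroupOf N).index = 5 := by
    have h7 := (R.subgroupOf N).card_mul_index
    rw [h4, Nat.card_congr (subgroupOfEquivOfLe hRN.le).toEquiv, hR] at h7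
    omega
  obtain ⟨r, hr, h7⟩ := (h.loc.sub N).two_trans hi (by
    rw [Nat.card_congr (subgroupOfEquivOfLe hRN.le).toEquiv, hR]; norm_num) (t := ⟨t, htN⟩) (t' := ⟨φ t, h5⟩)
    (fun h8 => htR h8) (fun h8 => h6 h8)
  refine ⟨r, hr, t, htR, ?_⟩
  have h8 : t⁻¹ * (r : T) * φ t ∈ R := h7
  have h9 : t⁻¹ * ((r : T) * φ t * (r : T)⁻¹) = t⁻¹ * (r : T) * φ t * (r : T)⁻¹ := by group
  rw [h9]
  exact R.mul_mem h8 (R.inv_mem hr)

theorem miss {M : Subgroup T} (hM : M ≠ ⊤) : Miss T M := by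
  by_cases h5 : 5 ∣ Nat.card M
  · have h7 : ¬ 7 ∣ Nat.card M := fun h7 => hM (h.h35 M h5 h7)
    obtain ⟨y, hy⟩ := h.exists_prime (p := 7) (by norm_num) (by norm_num)
    exact ⟨y, not_mem_of_dvd h7 (by rw [hy])⟩
  · obtain ⟨x, hx⟩ := h.exists_prime (p := 5) (by norm_num) (by norm_num)
    exact ⟨x, not_mem_of_dvd h5 (by rw [hx])⟩

theorem not_mem4 {R : Subgroup T} (hR : ¬ 4 ∣ Nat.card R) : ∀ m ∈ R, orderOf m ≠ 4 := fun m hm h1 =>
  hR (h1 ▸ orderOf_dvd_natCard R hm)

/-- the final condition for the non-maximal subgroups -/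
theorem fin3 {R : Subgroup T} (hR : R ≠ ⊤) (hRc : ¬ IsCoatom R) : Fin3 T R := by
  have := h.finite
  have hm := h.ord_mem hR
  have hidx := R.card_mul_index
  rw [h.card] at hidx
  have hd : ∀ {p : ℕ}, p ∣ 20160 → p ∣ Nat.card T := fun hp => by rw [h.card]; exact hp
  obtain ⟨x2, o2⟩ := h.exists_prime Nat.prime_two (by norm_num)
  obtain ⟨x3, o3⟩ := h.exists_prime Nat.prime_three (by norm_num)
  obtain ⟨x4, o4⟩ := h.four
  obtain ⟨x5, o5⟩ := h.exists_prime Nat.prime_five (by norm_num)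
  obtain ⟨x7, o7⟩ := h.exists_prime (p := 7) (by norm_num) (by norm_num)
  have hnc : Nat.card R ∉ ({168, 360, 960, 72} : Finset ℕ) := fun h1 => hRc (h.coatom hR h1)
  have hmiss : ∀ {v : ℕ} {x : T}, orderOf x = v → ¬ v ∣ Nat.card R → ∀ m ∈ R, orderOf m ≠ v :=
    fun _ hv m hm h1 => hv (h1 ▸ orderOf_dvd_natCard R hm)
  by_cases h7 : 7 ∣ Nat.card R
  · -- orders 7, 21, 56
    have h1 : ∀ n ∈ ords, 7 ∣ n → n ∉ ({168, 360, 960, 72} : Finset ℕ) → n = 7 ∨ n = 21 ∨ n = 56 := by decide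
    rcases h1 _ hm h7 hnc with h2 | h2 | h2
    · left
      exact Three.of_orders (by norm_num) (by norm_num) (by norm_num) o2 o3 o5 (hmiss o2 (by rw [h2]; norm_num))
        (hmiss o3 (by rw [h2]; norm_num)) (hmiss o5 (by rw [h2]; norm_num))
    · left
      exact Three.of_orders (by norm_num) (by norm_num) (by norm_num) o2 o4 o5 (hmiss o2 (by rw [h2]; norm_num))
        (hmiss o4 (by rw [h2]; norm_num)) (hmiss o5 (by rw [h2]; norm_num))
    · right
      rw [h2] at hidx
      refine ⟨h.threeT_five (by rw [h2]; norm_num) (z := x3) (by rw [o3]; norm_num)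
        (h.not_mem (by rw [h2]; norm_num) o3), Two.of_two_primes Nat.prime_three Nat.prime_five (by norm_num)
        (hd (by norm_num)) (hd (by norm_num)) (by rw [h2]; norm_num) (by rw [h2]; norm_num),
        Or.inl (h.noOne (by omega) (by omega))⟩
  by_cases h5 : 5 ∣ Nat.card R
  · by_cases h3 : 3 ∣ Nat.card R
    · -- order 60
      have h1 : ∀ n ∈ ords, 5 ∣ n → 3 ∣ n → n ∉ ({168, 360, 960, 72} : Finset ℕ) → n = 60 := by decide
      have h2 := h1 _ hm h5 h3 hnc
      have hno : ∀ m ∈ R, orderOf m ≠ 4 := by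
        intro m hm h6
        apply (h.loc.sub R).sixty h2 ⟨m, hm⟩
        rw [← h6, ← Subgroup.orderOf_coe]
      right
      refine ⟨h.threeT_seven h7 (z := x4) (by rw [o4]; norm_num) (fun g hg => hno _ hg (by rw [conj_order, o4])),
        Two.of_orders (by norm_num) o7 o4 (hmiss o7 h7) hno, Or.inl ?_⟩
      rw [h2] at hidx
      exact h.noOne (by omega) (by omega)
    · have h1 : ∀ n ∈ ords, 5 ∣ n → ¬ 3 ∣ n → n = 5 ∨ n = 10 ∨ n = 80 ∨ n = 160 := by decide
      right
      refine ⟨h.threeT_seven h7 (z := x3) (by rw [o3]; norm_num) (h.not_mem h3 o3),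
        Two.of_two_primes (v := 3) (w := 7) Nat.prime_three (by norm_num) (by norm_num)
          (hd (by norm_num)) (hd (by norm_num)) h3 h7, Or.inl ?_⟩
      rcases h1 _ hm h5 h3 with h2 | h2 | h2 | h2 <;> rw [h2] at hidx <;> exact h.noOne (by omega) (by omega)
  · have hT : ThreeT T R := h.threeT_five h5 (z := x7) (by rw [o7]; norm_num) (h.not_mem h7 o7)
    have hTw : Two T R := Two.of_two_primes (v := 5) (w := 7) Nat.prime_five (by norm_num) (by norm_num)
      (hd (by norm_num)) (hd (by norm_num)) h5 h7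
    by_cases h64 : Nat.card R = 64
    · left
      exact Three.of_orders (by norm_num) (by norm_num) (by norm_num) o3 o5 o7 (hmiss o3 (by rw [h64]; norm_num))
        (hmiss o5 (by rw [h64]; norm_num)) (hmiss o7 (by rw [h64]; norm_num))
    by_cases h18 : Nat.card R = 18
    · left
      exact Three.of_orders (by norm_num) (by norm_num) (by norm_num) o4 o5 o7 (hmiss o4 (by rw [h18]; norm_num))
        (hmiss o5 (by rw [h18]; norm_num)) (hmiss o7 (by rw [h18]; norm_num))
    right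
    refine ⟨hT, hTw, ?_⟩
    by_cases h192 : Nat.card R = 192
    · exact Or.inr (h.outBadN h192)
    left
    have h1 : ∀ n ∈ ords, ¬ 7 ∣ n → ¬ 5 ∣ n → n ≠ 64 → n ≠ 18 → n ≠ 192 → n ∉ ({168, 360, 960, 72} : Finset ℕ) →
        n ∈ ({1, 2, 3, 4, 6, 8, 9, 12, 24, 36, 16, 32, 48, 96} : Finset ℕ) := by decide
    have h2 := h1 _ hm h7 h5 h64 h18 h192 hnc
    simp only [Finset.mem_insert, Finset.mem_singleton] at h2
    rcases h2 with h2 | h2 | h2 | h2 | h2 | h2 | h2 | h2 | h2 | h2 | h2 | h2 | h2 | h2 <;> rw [h2] at hidx <;>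
      exact h.noOne (by omega) (by omega)

/-- **The row of `L₃(4)`.** -/
theorem rowW : RowW T :=
  ⟨Or.inr ⟨h.cos, fun _ hM => h.miss hM.1⟩, fun _ hR hRc => h.fin3 hR hRc⟩

end Hyp

end Cfsg.Agent.H587.Der34
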